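/-
Kernel-checked coset enumeration certificates (helper16).

An enumeration is replayed as a list of events on "virtual cosets".  Coset `c + 1` is defined by event `c`
(its parent and a letter); every later event is a relator scan: a walk along the letters of a word that closes up
except for its last letter.  An event has two oriented records `(from, letter, to)`, packed in 54 bits.  The checker
only inspects static tables, so a run needs no mutable state.
-/
import Mathlib

set_option autoImplicit false
set_option linter.unusedSectionVars false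

namespace Cfsg.Agent.Lib.ToddCox

theorem blt_true {a b : ℕ} (h : Nat.blt a b = true) : a < b := Nat.le_of_ble_eq_true h

theorem beq_false {a b : ℕ} (h : a ≠ b) : Nat.beq a b = false := by
  cases hb : Nat.beq a b with
  | false => rfl
  | true => exact absurd (Nat.eq_of_beq_eq_true hb) h

theorem land_mask (x n : ℕ) : Nat.land x (2 ^ n - 1) = x % 2 ^ n := Nat.and_two_pow_sub_one_eq_mod x n

/-- The low part of a record: source coset and letter. -/
def lowR (x : ℕ) : ℕ := Nat.land x 1073741823
/-- The target of a record. -/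
def hiR (x : ℕ) : ℕ := Nat.shiftRight x 30
/-- The source of a record. -/
def srcR (x : ℕ) : ℕ := Nat.land x 16777215
/-- The letter of a record. -/
def letR (x : ℕ) : ℕ := Nat.land (Nat.shiftRight x 24) 63

theorem lowR_eq (x : ℕ) : lowR x = x % 1073741824 := land_mask x 30

theorem hiR_eq (x : ℕ) : hiR x = x / 1073741824 := Nat.shiftRight_eq_div_pow x 30

theorem srcR_eq (x : ℕ) : srcR x = x % 16777216 := land_mask x 24

theorem letR_eq (x : ℕ) : letR x = x / 16777216 % 64 := by
  unfold letR
  have h := land_mask (Nat.shiftRight x 24) 6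
  have h2 := Nat.shiftRight_eq_div_pow x 24
  norm_num at h h2
  show (x >>> 24) &&& 63 = _
  rw [h, h2]

/-- Parts of the key of a record. -/
theorem key_parts {x cur a : ℕ} (hcur : cur < 16777216) (h : lowR x = cur + a * 16777216) :
    srcR x = cur ∧ letR x = a := by
  rw [lowR_eq] at h
  rw [srcR_eq, letR_eq]
  constructor <;> omega

/-- Reverse of a record. -/
def revR (inv : ℕ → ℕ) (x : ℕ) : ℕ :=
  Nat.add (hiR x) (Nat.add (Nat.mul (inv (letR x)) 16777216) (Nat.mul (srcR x) 1073741824))

theorem letR_lt (x : ℕ) : letR x < 64 := by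
  rw [letR_eq]
  omega

theorem revR_parts (inv : ℕ → ℕ) (hinv : ∀ y, y < 64 → inv y < 64) {x : ℕ} (hx : x < 18014398509481984) :
    srcR (revR inv x) = hiR x ∧ letR (revR inv x) = inv (letR x) ∧ hiR (revR inv x) = srcR x := by
  have h1 := hinv (letR x) (letR_lt x)
  have h2 : hiR x < 16777216 := by
    rw [hiR_eq]
    omega
  have h3 : srcR x < 16777216 := by
    rw [srcR_eq]
    omega
  show srcR (hiR x + (inv (letR x) * 16777216 + srcR x * 1073741824)) = _ ∧
    letR (hiR x + (inv (letR x) * 16777216 + srcR x * 1073741824)) = _ ∧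
    hiR (hiR x + (inv (letR x) * 16777216 + srcR x * 1073741824)) = _
  generalize hiR x = b at *
  generalize srcR x = a at *
  generalize inv (letR x) = l at *
  rw [srcR_eq, letR_eq, hiR_eq]
  refine ⟨?_, ?_, ?_⟩ <;> omega

/-- A word acting on a point, the first letter acting first. -/
def actW {X : Type*} (act : ℕ → X → X) (w : List ℕ) (p : X) : X := w.foldl (fun q y => act y q) p

theorem actW_nil {X : Type*} (act : ℕ → X → X) (p : X) : actW act [] p = p := rfl

theorem actW_cons {X : Type*} (act : ℕ → X → X) (a : ℕ) (w : List ℕ) (p : X) :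
    actW act (a :: w) p = actW act w (act a p) := rfl

theorem actW_append {X : Type*} (act : ℕ → X → X) (u v : List ℕ) (p : X) :
    actW act (u ++ v) p = actW act v (actW act u p) := by
  simp [actW, List.foldl_append]

/-- One step of a walk. -/
def stepW (Eo : ℕ → ℕ) (k2 : ℕ) (ih : ℕ → ℕ → Bool) (a cur r rest : ℕ) : Bool :=
  and (Nat.blt r k2)
    (and (Nat.beq (lowR (Eo r)) (Nat.add cur (Nat.mul a 16777216)))
      (ih (hiR (Eo r)) rest))

/-- A walk along a word: `P` holds the references as digits of 25 bits; at the end, the last letter `y` must lead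
from the coset reached to the target of the event (whose low part is `tgt`), and the rest of the digits goes to
the continuation `C`. -/
noncomputable def walkW (Eo : ℕ → ℕ) (k2 tgt y : ℕ) (C : ℕ → Bool) (w : List ℕ) : ℕ → ℕ → Bool :=
  List.rec (motive := fun _ => ℕ → ℕ → Bool)
    (fun cur P => and (Nat.beq (Nat.add cur (Nat.mul y 16777216)) tgt) (C P))
    (fun a _ ih cur P => stepW Eo k2 ih a cur (Nat.land P 33554431) (Nat.shiftRight P 25))
    w

theorem walkW_nil (Eo : ℕ → ℕ) (k2 tgt y : ℕ) (C : ℕ → Bool) (cur P : ℕ) :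
    walkW Eo k2 tgt y C [] cur P = and (Nat.beq (Nat.add cur (Nat.mul y 16777216)) tgt) (C P) := rfl

theorem walkW_cons (Eo : ℕ → ℕ) (k2 tgt y : ℕ) (C : ℕ → Bool) (a : ℕ) (w : List ℕ) (cur P : ℕ) :
    walkW Eo k2 tgt y C (a :: w) cur P
      = stepW Eo k2 (walkW Eo k2 tgt y C w) a cur (Nat.land P 33554431) (Nat.shiftRight P 25) := rfl

/-- The check of the two records of event `k` against each other. -/
def chkRev (Eo inv : ℕ → ℕ) (k : ℕ) : Bool :=
  Nat.beq (Eo (Nat.succ (Nat.mul 2 k))) (revR inv (Eo (Nat.mul 2 k)))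

/-- The check of a scan event, reading its proof data from the digits of `P`: a word number and references. The word
number `33554431` stands for a subgroup letter. The rest of the digits goes to `C`. -/
noncomputable def chkOne (Eo inv : ℕ → ℕ) (W : ℕ → List ℕ) (isH : ℕ → Bool) (k P : ℕ) (C : ℕ → Bool) : Bool :=
  and (chkRev Eo inv k)
    (bif Nat.beq (Nat.land P 33554431) 33554431 then
      and (isH (letR (Eo (Nat.mul 2 k))))
        (and (Nat.beq (srcR (Eo (Nat.mul 2 k))) 0)
          (and (Nat.beq (hiR (Eo (Nat.mul 2 k))) 0) (C (Nat.shiftRight P 25))))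
    else
      List.rec (motive := fun _ => Bool) false
        (fun y pre _ => walkW Eo (Nat.mul 2 k) (lowR (Eo (Nat.mul 2 k))) y C pre (hiR (Eo (Nat.mul 2 k)))
          (Nat.shiftRight P 25))
        (W (Nat.land P 33554431)))

/-- The check of `n` consecutive scan events, reading the digits of `P`. -/
noncomputable def chkStream (Eo inv : ℕ → ℕ) (W : ℕ → List ℕ) (isH : ℕ → Bool) (n : ℕ) : ℕ → ℕ → Bool :=
  Nat.rec (motive := fun _ => ℕ → ℕ → Bool) (fun _ _ => true)
    (fun _ ih k P => chkOne Eo inv W isH k P (ih (Nat.succ k))) n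

/-- The check of a list of chunks, each with `n` events. -/
noncomputable def chkChunks (Eo inv : ℕ → ℕ) (W : ℕ → List ℕ) (isH : ℕ → Bool) (n : ℕ) (L : List ℕ) : ℕ → Bool :=
  List.rec (motive := fun _ => ℕ → Bool) (fun _ => true)
    (fun P _ ih k => and (chkStream Eo inv W isH n k P) (ih (Nat.add k n))) L

/-- The event `k` has proof data. -/
def GoodE (Eo inv : ℕ → ℕ) (W : ℕ → List ℕ) (isH : ℕ → Bool) (k : ℕ) : Prop :=
  ∃ P C, chkOne Eo inv W isH k P C = true

/-- All events in a range have proof data. -/
def Covered (Eo inv : ℕ → ℕ) (W : ℕ → List ℕ) (isH : ℕ → Bool) (lo hi : ℕ) : Prop :=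
  ∀ k, lo ≤ k → k < hi → GoodE Eo inv W isH k

theorem Covered.trans {Eo inv : ℕ → ℕ} {W : ℕ → List ℕ} {isH : ℕ → Bool} {a b c : ℕ}
    (h1 : Covered Eo inv W isH a b) (h2 : Covered Eo inv W isH b c) : Covered Eo inv W isH a c := by
  intro k h3 h4
  by_cases h : k < b
  · exact h1 k h3 h
  · exact h2 k (by omega) h4

theorem covered_nil (Eo inv : ℕ → ℕ) (W : ℕ → List ℕ) (isH : ℕ → Bool) (a : ℕ) : Covered Eo inv W isH a a := by
  intro k h1 h2
  omega

theorem walkW_cont {Eo : ℕ → ℕ} {k2 tgt y : ℕ} {C : ℕ → Bool} (w : List ℕ) :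
    ∀ (cur P : ℕ), walkW Eo k2 tgt y C w cur P = true → ∃ P', C P' = true := by
  induction w with
  | nil =>
    intro cur P h
    rw [walkW_nil, Bool.and_eq_true] at h
    exact ⟨P, h.2⟩
  | cons a w ih =>
    intro cur P h
    rw [walkW_cons, stepW, Bool.and_eq_true, Bool.and_eq_true] at h
    exact ih _ _ h.2.2

theorem chkOne_cont {Eo inv : ℕ → ℕ} {W : ℕ → List ℕ} {isH : ℕ → Bool} {k P : ℕ} {C : ℕ → Bool}
    (h : chkOne Eo inv W isH k P C = true) : ∃ P', C P' = true := by
  unfold chkOne at h
  rw [Bool.and_eq_true] at h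
  obtain ⟨-, h⟩ := h
  by_cases hd : Nat.beq (Nat.land P 33554431) 33554431 = true
  · rw [hd] at h
    simp only [cond_true, Bool.and_eq_true] at h
    exact ⟨_, h.2.2.2⟩
  · have hd' : Nat.beq (Nat.land P 33554431) 33554431 = false := (Bool.not_eq_true _).mp hd
    rw [hd'] at h
    simp only [cond_false] at h
    generalize W (Nat.land P 33554431) = ww at h
    cases ww with
    | nil => exact absurd h (by simp)
    | cons y pre => exact walkW_cont pre _ _ h

theorem covered_of_stream {Eo inv : ℕ → ℕ} {W : ℕ → List ℕ} {isH : ℕ → Bool} (n : ℕ) :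
    ∀ (k P : ℕ), chkStream Eo inv W isH n k P = true → Covered Eo inv W isH k (k + n) := by
  induction n with
  | zero => intro k P _ j h1 h2; omega
  | succ n ih =>
    intro k P h j h1 h2
    have h' : chkOne Eo inv W isH k P (chkStream Eo inv W isH n (Nat.succ k)) = true := h
    by_cases hj : j = k
    · subst hj
      exact ⟨P, _, h'⟩
    · obtain ⟨P', hP'⟩ := chkOne_cont h'
      exact ih _ _ hP' j (by show k + 1 ≤ j; omega) (by show j < k + 1 + n; omega)

theorem covered_of_chunks {Eo inv : ℕ → ℕ} {W : ℕ → List ℕ} {isH : ℕ → Bool} (n : ℕ) (L : List ℕ) :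
    ∀ (lo hi : ℕ), lo + L.length * n = hi → chkChunks Eo inv W isH n L lo = true →
      Covered Eo inv W isH lo hi := by
  induction L with
  | nil =>
    intro lo hi h _ j h1 h2
    simp at h
    omega
  | cons P L ih =>
    intro lo hi h h'
    have h'' : and (chkStream Eo inv W isH n lo P) (chkChunks Eo inv W isH n L (Nat.add lo n)) = true := h'
    rw [Bool.and_eq_true] at h''
    refine Covered.trans (covered_of_stream n lo P h''.1) (ih (lo + n) hi ?_ h''.2)
    simp only [List.length_cons] at h
    rw [← h]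
    ring

/-- Loop over `[lo, lo + 2 ^ d)`, by halves. -/
noncomputable def allBits (f : ℕ → Bool) (d : ℕ) : ℕ → Bool :=
  Nat.rec (motive := fun _ => ℕ → Bool) (fun lo => f lo)
    (fun d ih lo => and (ih lo) (ih (Nat.add lo (Nat.pow 2 d)))) d

theorem allBits_spec {f : ℕ → Bool} {d lo : ℕ} (h : allBits f d lo = true) :
    ∀ k, lo ≤ k → k < lo + 2 ^ d → f k = true := by
  induction d generalizing lo with
  | zero =>
    intro k h1 h2
    have : k = lo := by simp at h2; omega
    subst this
    exact h
  | succ d ih =>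
    have h' : and (allBits f d lo) (allBits f d (lo + 2 ^ d)) = true := h
    rw [Bool.and_eq_true] at h'
    intro k h1 h2
    by_cases hk : k < lo + 2 ^ d
    · exact ih h'.1 k h1 hk
    · refine ih h'.2 k (by omega) ?_
      rw [pow_succ] at h2
      omega

/-- Loop over all numbers below `n`, for `n ≤ 2 ^ d`, by halves. -/
noncomputable def allBelow (f : ℕ → Bool) (n d : ℕ) : Bool :=
  allBits (fun k => bif Nat.blt k n then f k else true) d 0

theorem allBelow_spec {f : ℕ → Bool} {n d : ℕ} (hn : n ≤ 2 ^ d) (h : allBelow f n d = true) :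
    ∀ k, k < n → f k = true := by
  intro k hk
  have := allBits_spec h k (Nat.zero_le k) (by omega)
  have hb : Nat.blt k n = true := by
    show Nat.ble (k + 1) n = true
    exact Nat.ble_eq_true_of_le hk
  rw [hb] at this
  exact this

section sem

variable {X : Type*} (act : ℕ → X → X) (base : X) (Eo inv : ℕ → ℕ) (W : ℕ → List ℕ) (isH : ℕ → Bool)

/-- The point of a virtual coset. -/
noncomputable def rep (c : ℕ) : X :=
  match c with
  | 0 => base
  | c + 1 =>
    if _h : srcR (Eo (2 * c)) ≤ c then act (letR (Eo (2 * c))) (rep (srcR (Eo (2 * c)))) else base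
termination_by c
decreasing_by omega

theorem rep_zero : rep act base Eo 0 = base := by
  rw [rep]

theorem rep_succ {c : ℕ} (h : srcR (Eo (2 * c)) ≤ c) :
    rep act base Eo (c + 1) = act (letR (Eo (2 * c))) (rep act base Eo (srcR (Eo (2 * c)))) := by
  rw [rep, dif_pos h]

/-- The statement of an oriented record. -/
def HoldsO (r : ℕ) : Prop :=
  act (letR (Eo r)) (rep act base Eo (srcR (Eo r))) = rep act base Eo (hiR (Eo r))

variable (hinv : ∀ y p, act (inv y) (act y p) = p) (hinvlt : ∀ y, y < 64 → inv y < 64)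
  (hEo : ∀ r, Eo r < 18014398509481984)

/-- The reverse record holds. -/
theorem holds_rev {k : ℕ} (h1 : HoldsO act base Eo (2 * k)) (h2 : chkRev Eo inv k = true)
    (hinv : ∀ y p, act (inv y) (act y p) = p) (hinvlt : ∀ y, y < 64 → inv y < 64)
    (hEo : ∀ r, Eo r < 18014398509481984) :
    HoldsO act base Eo (2 * k + 1) := by
  have h3 : Eo (2 * k + 1) = revR inv (Eo (2 * k)) := Nat.eq_of_beq_eq_true h2
  obtain ⟨h4, h5, h6⟩ := revR_parts inv hinvlt (hEo (2 * k))
  unfold HoldsO at h1 ⊢
  rw [h3, h4, h5, h6, ← h1, hinv]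

include hinv hinvlt hEo in
/-- A successful walk reaches the claimed point. -/
theorem walkW_spec {k2 tgt y : ℕ} {C : ℕ → Bool} (hk : ∀ r, r < k2 → HoldsO act base Eo r) (w : List ℕ) :
    ∀ (cur P : ℕ), cur < 16777216 → walkW Eo k2 tgt y C w cur P = true →
      ∃ u, u < 16777216 ∧ tgt = u + y * 16777216 ∧ actW act w (rep act base Eo cur) = rep act base Eo u := by
  induction w with
  | nil =>
    intro cur P hcur h
    rw [walkW_nil, Bool.and_eq_true] at h
    have h1 := Nat.eq_of_beq_eq_true h.1
    exact ⟨cur, hcur, h1.symm, rfl⟩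
  | cons a w ih =>
    intro cur P hcur h
    rw [walkW_cons, stepW, Bool.and_eq_true, Bool.and_eq_true] at h
    obtain ⟨h1, h2, h3⟩ := h
    have h4 := blt_true h1
    have h5 := hk _ h4
    have h6 : lowR (Eo (Nat.land P 33554431)) = cur + a * 16777216 := Nat.eq_of_beq_eq_true h2
    obtain ⟨h7, h8⟩ := key_parts hcur h6
    have h9 : hiR (Eo (Nat.land P 33554431)) < 16777216 := by
      rw [hiR_eq]
      have := hEo (Nat.land P 33554431)
      omega
    obtain ⟨u, hu, hu2, hu3⟩ := ih _ _ h9 h3
    refine ⟨u, hu, hu2, ?_⟩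
    unfold HoldsO at h5
    rw [h7, h8] at h5
    rw [actW_cons, h5, hu3]

/-- Validity of the words: the head letter is acted last. -/
def ValidHead (w : List ℕ) : Prop :=
  match w with
  | [] => True
  | y :: pre => ∀ q, actW act (pre ++ [y]) q = q

include hinv hinvlt hEo in
/-- A checked event holds, if the earlier events hold. -/
theorem chkOne_spec (hW : ∀ w, ValidHead act (W w)) (hH : ∀ y, isH y = true → act y base = base)
    {k P : ℕ} {C : ℕ → Bool} (hk : ∀ r, r < 2 * k → HoldsO act base Eo r) (h : chkOne Eo inv W isH k P C = true) :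
    HoldsO act base Eo (2 * k) ∧ HoldsO act base Eo (2 * k + 1) := by
  unfold chkOne at h
  rw [Bool.and_eq_true] at h
  obtain ⟨h0, h⟩ := h
  have key : HoldsO act base Eo (2 * k) := by
    by_cases hd : Nat.beq (Nat.land P 33554431) 33554431 = true
    · rw [hd] at h
      simp only [cond_true, Bool.and_eq_true] at h
      obtain ⟨h1, h2, h3, -⟩ := h
      have h2' := Nat.eq_of_beq_eq_true h2
      have h3' := Nat.eq_of_beq_eq_true h3
      have e2 : Nat.mul 2 k = 2 * k := rfl
      rw [e2] at h1 h2' h3'
      unfold HoldsO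
      rw [h2', h3', rep_zero]
      exact hH _ h1
    · have hd' : Nat.beq (Nat.land P 33554431) 33554431 = false := (Bool.not_eq_true _).mp hd
      rw [hd'] at h
      simp only [cond_false] at h
      have hV := hW (Nat.land P 33554431)
      generalize W (Nat.land P 33554431) = ww at h hV
      cases ww with
      | nil => exact absurd h (by simp)
      | cons y pre =>
        have h1 : walkW Eo (2 * k) (lowR (Eo (2 * k))) y C pre (hiR (Eo (2 * k))) (Nat.shiftRight P 25) = true := h
        have hb : hiR (Eo (2 * k)) < 16777216 := by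
          rw [hiR_eq]
          have := hEo (2 * k)
          omega
        obtain ⟨u, hu, hu2, hu3⟩ := walkW_spec act base Eo inv hinv hinvlt hEo hk pre _ _ hb h1
        obtain ⟨e1, e2⟩ := key_parts hu hu2
        have h4 := hV (rep act base Eo (hiR (Eo (2 * k))))
        rw [actW_append, hu3] at h4
        unfold HoldsO
        rw [e1, e2]
        exact h4
  exact ⟨key, holds_rev act base Eo inv key h0 hinv hinvlt hEo⟩

/-- The check of a definition event. -/
def chkDef (Eo inv : ℕ → ℕ) (c : ℕ) : Bool :=
  and (Nat.ble (srcR (Eo (Nat.mul 2 c))) c)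
    (and (Nat.beq (hiR (Eo (Nat.mul 2 c))) (Nat.succ c)) (chkRev Eo inv c))

include hinv hinvlt hEo in
/-- All events hold. -/
theorem all_holds (hW : ∀ w, ValidHead act (W w)) (hH : ∀ y, isH y = true → act y base = base)
    {nDef nEv : ℕ} (hdef : ∀ c, c < nDef → chkDef Eo inv c = true)
    (hchk : Covered Eo inv W isH nDef nEv) :
    ∀ r, r < 2 * nEv → HoldsO act base Eo r := by
  have main : ∀ k, k ≤ nEv → ∀ r, r < 2 * k → HoldsO act base Eo r := by
    intro k
    induction k with
    | zero => intro _ r hr; omega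
    | succ k ih =>
      intro hk r hr
      have ih' := ih (by omega)
      by_cases hr2 : r < 2 * k
      · exact ih' r hr2
      · have hboth : HoldsO act base Eo (2 * k) ∧ HoldsO act base Eo (2 * k + 1) := by
          by_cases h : k < nDef
          · have h1 := hdef k h
            unfold chkDef at h1
            rw [Bool.and_eq_true, Bool.and_eq_true] at h1
            obtain ⟨h2, h3, h4⟩ := h1
            have h2' : srcR (Eo (2 * k)) ≤ k := Nat.le_of_ble_eq_true h2
            have h3' : hiR (Eo (2 * k)) = k + 1 := Nat.eq_of_beq_eq_true h3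
            have key : HoldsO act base Eo (2 * k) := by
              unfold HoldsO
              rw [h3', rep_succ act base Eo h2']
            exact ⟨key, holds_rev act base Eo inv key h4 hinv hinvlt hEo⟩
          · obtain ⟨P, C, hp⟩ := hchk k (by omega) (by omega)
            exact chkOne_spec act base Eo inv W isH hinv hinvlt hEo hW hH ih' hp
        have : r = 2 * k ∨ r = 2 * k + 1 := by omega
        rcases this with rfl | rfl
        · exact hboth.1
        · exact hboth.2
  exact main nEv le_rfl

end sem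

/-! ### Words -/

section words

variable {X : Type*} (act : ℕ → X → X) (inv : ℕ → ℕ)
  (hinv : ∀ y p, act (inv y) (act y p) = p) (hinv' : ∀ y p, act y (act (inv y) p) = p)

/-- The inverse of a word. -/
def invW (inv : ℕ → ℕ) (w : List ℕ) : List ℕ := (w.reverse).map inv

include hinv in
theorem actW_invW_left (w : List ℕ) (p : X) : actW act (invW inv w) (actW act w p) = p := by
  induction w generalizing p with
  | nil => rfl
  | cons a w ih =>
    rw [actW_cons]
    have : invW inv (a :: w) = invW inv w ++ [inv a] := by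
      simp [invW]
    rw [this, actW_append, ih]
    show act (inv a) (act a p) = p
    exact hinv a p

include hinv in
theorem valid_invW {w : List ℕ} (h : ∀ p, actW act w p = p) (p : X) : actW act (invW inv w) p = p := by
  have h1 := actW_invW_left act inv hinv w p
  rwa [h p] at h1

include hinv' in
theorem valid_rot1 {a : ℕ} {w : List ℕ} (h : ∀ p, actW act (a :: w) p = p) (p : X) :
    actW act (w ++ [a]) p = p := by
  rw [actW_append]
  have h1 := h (act (inv a) p)
  rw [actW_cons, hinv'] at h1
  show act a (actW act w p) = p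
  rw [h1, hinv']

include hinv' in
theorem valid_rotate {w : List ℕ} (h : ∀ p, actW act w p = p) (k : ℕ) (p : X) :
    actW act (w.rotate k) p = p := by
  induction k generalizing w with
  | zero => simpa using h p
  | succ k ih =>
    cases w with
    | nil => simp [actW]
    | cons a w =>
      rw [List.rotate_cons_succ]
      exact ih (valid_rot1 act inv hinv' h)

end words

/-- A word with the identity letter removed. -/
def stripId (w : List ℕ) : List ℕ := w.filter (fun a => !(Nat.beq a 63))

theorem actW_stripId {X : Type*} (act : ℕ → X → X) (hid : ∀ p, act 63 p = p) (w : List ℕ) (p : X) :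
    actW act (stripId w) p = actW act w p := by
  induction w generalizing p with
  | nil => rfl
  | cons a w ih =>
    by_cases ha : a = 63
    · subst ha
      have : stripId (63 :: w) = stripId w := by
        simp [stripId]
      rw [this, ih, actW_cons, hid]
    · have : stripId (a :: w) = a :: stripId w := by
        have : (!(Nat.beq a 63)) = true := by
          rw [beq_false ha]
          rfl
        simp only [stripId, List.filter_cons, this, if_true]
      rw [this, actW_cons, ih, actW_cons]

/-- Which words are allowed: the head letter moved last and identity letters removed gives, up to a rotation, a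
relator or the inverse of a relator. -/
def specW (R : ℕ → List ℕ) (inv : ℕ → ℕ) (i r k : ℕ) : List ℕ :=
  (bif Nat.beq i 1 then invW inv (R r) else R r).rotate k

/-- Move the head letter to the end. -/
def headLast (w : List ℕ) : List ℕ :=
  match w with
  | [] => []
  | y :: pre => pre ++ [y]

theorem valid_of_spec {X : Type*} (act : ℕ → X → X) (inv : ℕ → ℕ)
    (hinv : ∀ y p, act (inv y) (act y p) = p) (hinv' : ∀ y p, act y (act (inv y) p) = p)
    (hid : ∀ p, act 63 p = p) (R : ℕ → List ℕ) (hR : ∀ r p, actW act (R r) p = p)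
    {w : List ℕ} {i r k : ℕ} (h : stripId (headLast w) = specW R inv i r k) : ValidHead act w := by
  cases w with
  | nil => trivial
  | cons y pre =>
    intro q
    have h1 : stripId (pre ++ [y]) = specW R inv i r k := h
    rw [← actW_stripId act hid, h1]
    apply valid_rotate act inv hinv'
    intro p
    cases Nat.beq i 1
    · exact hR r p
    · exact valid_invW act inv hinv (hR r) p

/-! ### The conclusion: finitely many cosets -/

/-- Check of one final link: record `r` goes from the coset `c` by the letter `y` to the coset `d`. -/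
def chkLink (Eo : ℕ → ℕ) (nEv2 c y d r : ℕ) : Bool :=
  and (Nat.blt r nEv2)
    (and (Nat.beq (lowR (Eo r)) (Nat.add c (Nat.mul y 16777216))) (Nat.beq (hiR (Eo r)) d))

/-- The links of one point: digits (25 bits) `j, r` for each letter of the list; `j` is a point, `r` a record. -/
noncomputable def chkLinks (Eo cF : ℕ → ℕ) (nEv2 N c : ℕ) (C : ℕ → Bool) (ys : List ℕ) : ℕ → Bool :=
  List.rec (motive := fun _ => ℕ → Bool)
    (fun P => C P)
    (fun y _ ih P => and (Nat.blt (Nat.land P 33554431) N)
      (and (chkLink Eo nEv2 c y (cF (Nat.land P 33554431)) (Nat.land (Nat.shiftRight P 25) 33554431))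
        (ih (Nat.shiftRight P 50))))
    ys

/-- The links of `n` consecutive points. -/
noncomputable def chkPoints (Eo cF : ℕ → ℕ) (nEv2 N : ℕ) (ys : List ℕ) (n : ℕ) : ℕ → ℕ → Bool :=
  Nat.rec (motive := fun _ => ℕ → ℕ → Bool) (fun _ _ => true)
    (fun _ ih i P => chkLinks Eo cF nEv2 N (cF i) (ih (Nat.succ i)) ys P) n

/-- The links of a list of chunks of `n` points. -/
noncomputable def chkPointChunks (Eo cF : ℕ → ℕ) (nEv2 N : ℕ) (ys : List ℕ) (n : ℕ) (L : List ℕ) : ℕ → Bool :=
  List.rec (motive := fun _ => ℕ → Bool) (fun _ => true)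
    (fun P _ ih i => and (chkPoints Eo cF nEv2 N ys n i P) (ih (Nat.add i n))) L

/-- All links of the points of a range are good. -/
def LinksOK (Eo cF : ℕ → ℕ) (nEv2 N : ℕ) (ys : List ℕ) (lo hi : ℕ) : Prop :=
  ∀ i, lo ≤ i → i < hi → ∀ y ∈ ys, ∃ j r, j < N ∧ chkLink Eo nEv2 (cF i) y (cF j) r = true

theorem LinksOK.trans {Eo cF : ℕ → ℕ} {nEv2 N : ℕ} {ys : List ℕ} {a b c : ℕ}
    (h1 : LinksOK Eo cF nEv2 N ys a b) (h2 : LinksOK Eo cF nEv2 N ys b c) : LinksOK Eo cF nEv2 N ys a c := by
  intro k h3 h4
  by_cases h : k < b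
  · exact h1 k h3 h
  · exact h2 k (by omega) h4

theorem linksOK_nil (Eo cF : ℕ → ℕ) (nEv2 N : ℕ) (ys : List ℕ) (a : ℕ) : LinksOK Eo cF nEv2 N ys a a := by
  intro k h1 h2
  omega

theorem chkLinks_spec {Eo cF : ℕ → ℕ} {nEv2 N c : ℕ} {C : ℕ → Bool} (ys : List ℕ) :
    ∀ P, chkLinks Eo cF nEv2 N c C ys P = true →
      (∀ y ∈ ys, ∃ j r, j < N ∧ chkLink Eo nEv2 c y (cF j) r = true) ∧ ∃ P', C P' = true := by
  induction ys with
  | nil =>
    intro P h
    exact ⟨by simp, P, h⟩
  | cons y ys ih =>
    intro P h
    have h' : and (Nat.blt (Nat.land P 33554431) N)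
      (and (chkLink Eo nEv2 c y (cF (Nat.land P 33554431)) (Nat.land (Nat.shiftRight P 25) 33554431))
        (chkLinks Eo cF nEv2 N c C ys (Nat.shiftRight P 50))) = true := h
    rw [Bool.and_eq_true, Bool.and_eq_true] at h'
    obtain ⟨h1, h2, h3⟩ := h'
    obtain ⟨h4, h5⟩ := ih _ h3
    refine ⟨?_, h5⟩
    intro a ha
    rcases List.mem_cons.mp ha with rfl | ha
    · exact ⟨_, _, blt_true h1, h2⟩
    · exact h4 a ha

theorem linksOK_of_points {Eo cF : ℕ → ℕ} {nEv2 N : ℕ} {ys : List ℕ} (n : ℕ) :
    ∀ (i P : ℕ), chkPoints Eo cF nEv2 N ys n i P = true → LinksOK Eo cF nEv2 N ys i (i + n) := by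
  induction n with
  | zero => intro i P _ j h1 h2; omega
  | succ n ih =>
    intro i P h j h1 h2
    have h' : chkLinks Eo cF nEv2 N (cF i) (chkPoints Eo cF nEv2 N ys n (Nat.succ i)) ys P = true := h
    obtain ⟨h3, P', h4⟩ := chkLinks_spec ys P h'
    by_cases hj : j = i
    · subst hj
      exact h3
    · exact ih _ _ h4 j (by show i + 1 ≤ j; omega) (by show j < i + 1 + n; omega)

theorem linksOK_of_chunks {Eo cF : ℕ → ℕ} {nEv2 N : ℕ} {ys : List ℕ} (n : ℕ) (L : List ℕ) :
    ∀ (lo hi : ℕ), lo + L.length * n = hi → chkPointChunks Eo cF nEv2 N ys n L lo = true →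
      LinksOK Eo cF nEv2 N ys lo hi := by
  induction L with
  | nil =>
    intro lo hi h _ j h1 h2
    simp at h
    omega
  | cons P L ih =>
    intro lo hi h h'
    have h'' : and (chkPoints Eo cF nEv2 N ys n lo P) (chkPointChunks Eo cF nEv2 N ys n L (Nat.add lo n)) = true := h'
    rw [Bool.and_eq_true] at h''
    refine LinksOK.trans (linksOK_of_points n lo P h''.1) (ih (lo + n) hi ?_ h''.2)
    simp only [List.length_cons] at h
    rw [← h]
    ring

section final

variable {X : Type*} (act : ℕ → X → X) (base : X) (Eo : ℕ → ℕ)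

theorem chkLink_spec {nEv2 : ℕ} (hall : ∀ r, r < nEv2 → HoldsO act base Eo r) {c y d r : ℕ}
    (hc : c < 16777216)
    (h : chkLink Eo nEv2 c y d r = true) :
    act y (rep act base Eo c) = rep act base Eo d := by
  unfold chkLink at h
  rw [Bool.and_eq_true, Bool.and_eq_true] at h
  obtain ⟨h1, h2, h3⟩ := h
  have h4 := hall _ (blt_true h1)
  obtain ⟨e1, e2⟩ := key_parts hc (Nat.eq_of_beq_eq_true h2)
  unfold HoldsO at h4
  rw [e1, e2, Nat.eq_of_beq_eq_true h3] at h4
  exact h4

end final

/-! ### Groups -/

section groups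

variable {Γ : Type*} [Group Γ] (H : Subgroup Γ) (gen : ℕ → Γ)

/-- The product of a word, with the first letter acting first. -/
def wordVal (w : List ℕ) : Γ := (w.reverse.map gen).prod

theorem wordVal_cons (a : ℕ) (w : List ℕ) : wordVal gen (a :: w) = wordVal gen w * gen a := by
  simp [wordVal]

theorem actW_gen (w : List ℕ) (p : Γ ⧸ H) :
    actW (fun y (q : Γ ⧸ H) => gen y • q) w p = wordVal gen w • p := by
  induction w generalizing p with
  | nil => simp [actW, wordVal]
  | cons a w ih =>
    rw [actW_cons, ih, wordVal_cons, mul_smul]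

/-- The index bound. -/
theorem index_le_of_closed {N : ℕ} (hN : 0 < N) (π : ℕ → Γ ⧸ H) (hbase : π 0 = ((1 : Γ) : Γ ⧸ H))
    (S : Set Γ) (hgen : Subgroup.closure S = ⊤)
    (hcl : ∀ g ∈ S, ∀ i, i < N → ∃ j, j < N ∧ g • π i = π j) : 0 < H.index ∧ H.index ≤ N := by
  have hall : ∀ g : Γ, ∀ i, i < N → ∃ j, j < N ∧ g • π i = π j := by
    intro g
    have hg : g ∈ Subgroup.closure S := by rw [hgen]; trivial
    induction hg using Subgroup.closure_induction with
    | mem x hx =>
      exact fun i hi => hcl x hx i hi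
    | one => exact fun i hi => ⟨i, hi, by simp⟩
    | mul a b _ _ iha ihb =>
      intro i hi
      obtain ⟨j, hj, e⟩ := ihb i hi
      obtain ⟨l, hl, e2⟩ := iha j hj
      exact ⟨l, hl, by rw [mul_smul, e, e2]⟩
    | inv a _ iha =>
      -- inverse: a permutes the finite image, so its inverse does too
      intro i hi
      classical
      let F : Finset (Γ ⧸ H) := (Finset.range N).image π
      have hmaps : ∀ q ∈ F, a • q ∈ F := by
        intro q hq
        obtain ⟨i', hi', rfl⟩ := Finset.mem_image.mp hq
        obtain ⟨j, hj, e⟩ := iha i' (Finset.mem_range.mp hi')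
        rw [e]
        exact Finset.mem_image_of_mem _ (Finset.mem_range.mpr hj)
      have hsurj : Finset.image (fun q => a • q) F = F := by
        apply Finset.eq_of_subset_of_card_le
        · intro q hq
          obtain ⟨q', hq', rfl⟩ := Finset.mem_image.mp hq
          exact hmaps q' hq'
        · rw [Finset.card_image_of_injective _ (MulAction.injective a)]
      have h0 : π i ∈ F := Finset.mem_image_of_mem _ (Finset.mem_range.mpr hi)
      rw [← hsurj] at h0
      obtain ⟨q, hq, e⟩ := Finset.mem_image.mp h0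
      obtain ⟨j, hj, rfl⟩ := Finset.mem_image.mp hq
      refine ⟨j, Finset.mem_range.mp hj, ?_⟩
      rw [← e, inv_smul_smul]
  have hsurj : ∀ q : Γ ⧸ H, ∃ i, i < N ∧ q = π i := by
    intro q
    obtain ⟨g, rfl⟩ := QuotientGroup.mk_surjective q
    obtain ⟨j, hj, e⟩ := hall g 0 hN
    refine ⟨j, hj, ?_⟩
    rw [← e, hbase]
    simp
  have hs : Function.Surjective (fun i : Fin N => π i) := by
    intro q
    obtain ⟨i, hi, rfl⟩ := hsurj q
    exact ⟨⟨i, hi⟩, rfl⟩
  rw [Subgroup.index]
  have hfin : Finite (Γ ⧸ H) := Finite.of_surjective _ hs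
  have hne : Nonempty (Γ ⧸ H) := ⟨((1 : Γ) : Γ ⧸ H)⟩
  refine ⟨Nat.card_pos, ?_⟩
  have := Nat.card_le_card_of_surjective _ hs
  simpa using this

/-- The certificate bounds the index. -/
theorem index_le_cert (Eo inv : ℕ → ℕ) (W : ℕ → List ℕ) (isH : ℕ → Bool)
    (hinvlt : ∀ y, y < 64 → inv y < 64) (hEo : ∀ r, Eo r < 18014398509481984)
    (hgeninv : ∀ y, gen (inv y) = (gen y)⁻¹)
    (hW : ∀ w, ValidHead (fun y (q : Γ ⧸ H) => gen y • q) (W w))
    (hH : ∀ y, isH y = true → gen y ∈ H)
    {nDef nEv : ℕ} (hdef : ∀ c, c < nDef → chkDef Eo inv c = true)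
    (hchk : Covered Eo inv W isH nDef nEv)
    {N : ℕ} (hN : 0 < N) (cF : ℕ → ℕ) (hc0 : cF 0 = 0) (hclt : ∀ i, cF i < 16777216) (ys : List ℕ)
    (hgen : Subgroup.closure (gen '' {y | y ∈ ys}) = ⊤)
    (hlinks : LinksOK Eo cF (2 * nEv) N ys 0 N) : 0 < H.index ∧ H.index ≤ N := by
  let act : ℕ → Γ ⧸ H → Γ ⧸ H := fun y q => gen y • q
  let base : Γ ⧸ H := ((1 : Γ) : Γ ⧸ H)
  have hinv : ∀ y p, act (inv y) (act y p) = p := by
    intro y p
    show gen (inv y) • gen y • p = p
    rw [hgeninv, inv_smul_smul]
  have hH' : ∀ y, isH y = true → act y base = base := by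
    intro y hy
    show gen y • ((1 : Γ) : Γ ⧸ H) = ((1 : Γ) : Γ ⧸ H)
    have h1 : gen y • ((1 : Γ) : Γ ⧸ H) = ((gen y * 1 : Γ) : Γ ⧸ H) := rfl
    rw [h1, mul_one, QuotientGroup.eq]
    simpa using H.inv_mem (hH y hy)
  have hall := all_holds act base Eo inv W isH hinv hinvlt hEo hW hH' hdef hchk
  refine index_le_of_closed H hN (fun i => rep act base Eo (cF i)) ?_ (gen '' {y | y ∈ ys}) hgen ?_
  · show rep act base Eo (cF 0) = _
    rw [hc0, rep_zero]
  · rintro g ⟨y, hy, rfl⟩ i hi
    obtain ⟨j, r, hj, hl⟩ := hlinks i (Nat.zero_le i) hi y hy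
    exact ⟨j, hj, chkLink_spec act base Eo hall (hclt i) hl⟩

end groups

end Cfsg.Agent.Lib.ToddCox
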