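/-
Permutation representations given by tables of numbers (helper16).
-/
import Cfsg.Agent.Lib.ToddCox.Core

set_option autoImplicit false
set_option linter.unusedSectionVars false

namespace Cfsg.Agent.Lib.ToddCox

/-- A word applied to a number by tables, the first letter acting first. -/
noncomputable def tabW (tab : ℕ → ℕ → ℕ) (w : List ℕ) : ℕ → ℕ :=
  List.rec (motive := fun _ => ℕ → ℕ) (fun p => p) (fun a _ ih p => ih (tab a p)) w

theorem tabW_nil (tab : ℕ → ℕ → ℕ) (p : ℕ) : tabW tab [] p = p := rfl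

theorem tabW_cons (tab : ℕ → ℕ → ℕ) (a : ℕ) (w : List ℕ) (p : ℕ) :
    tabW tab (a :: w) p = tabW tab w (tab a p) := rfl

theorem tabW_append (tab : ℕ → ℕ → ℕ) (u v : List ℕ) (p : ℕ) :
    tabW tab (u ++ v) p = tabW tab v (tabW tab u p) := by
  induction u generalizing p with
  | nil => rfl
  | cons a u ih =>
    show tabW tab (u ++ v) (tab a p) = _
    rw [ih]
    rfl

/-- A table is a family of permutations of the numbers below `N`. -/
structure TabOK (tab : ℕ → ℕ → ℕ) (inv : ℕ → ℕ) (N m : ℕ) : Prop where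
  lt : ∀ y, y < m → ∀ i, i < N → tab y i < N
  invlt : ∀ y, y < m → inv y < m
  invinv : ∀ y, y < m → inv (inv y) = y
  invr : ∀ y, y < m → ∀ i, i < N → tab (inv y) (tab y i) = i

section perm

variable {tab : ℕ → ℕ → ℕ} {inv : ℕ → ℕ} {N m : ℕ} (h : TabOK tab inv N m)

/-- The permutation of a letter. -/
noncomputable def permL (y : ℕ) : Equiv.Perm (Fin N) :=
  if hy : y < m then
    { toFun := fun i => ⟨tab y i, h.lt y hy i i.2⟩
      invFun := fun i => ⟨tab (inv y) i, h.lt _ (h.invlt y hy) i i.2⟩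
      left_inv := fun i => Fin.ext (h.invr y hy i i.2)
      right_inv := fun i => Fin.ext (by
        have h1 := h.invr (inv y) (h.invlt y hy) i i.2
        rw [h.invinv y hy] at h1
        exact h1) }
  else 1

theorem permL_apply {y : ℕ} (hy : y < m) (i : Fin N) : ((permL h y i : Fin N) : ℕ) = tab y i := by
  unfold permL
  rw [dif_pos hy]
  rfl

theorem permL_inv {y : ℕ} (hy : y < m) : permL h (inv y) = (permL h y)⁻¹ := by
  rw [eq_inv_iff_mul_eq_one]
  ext i
  show ((permL h (inv y) (permL h y i) : Fin N) : ℕ) = i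
  rw [permL_apply h (h.invlt y hy), permL_apply h hy]
  exact h.invr y hy i i.2

theorem permL_word {w : List ℕ} (hw : ∀ a ∈ w, a < m) (i : Fin N) :
    ((wordVal (permL h) w i : Fin N) : ℕ) = tabW tab w i := by
  induction w generalizing i with
  | nil => simp [wordVal, tabW_nil]
  | cons a w ih =>
    have ha : a < m := hw a (List.mem_cons_self)
    rw [wordVal_cons, Equiv.Perm.mul_apply, ih (fun b hb => hw b (List.mem_cons_of_mem a hb)),
      tabW_cons, permL_apply h ha]

/-- A word is trivial if its table is. -/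
theorem word_eq_one {w : List ℕ} (hw : ∀ a ∈ w, a < m) (h1 : ∀ i, i < N → tabW tab w i = i) :
    wordVal (permL h) w = 1 := by
  ext i
  rw [permL_word h hw]
  exact h1 i i.2

end perm

/-- Check of a table on the points `i` of a range. -/
noncomputable def chkTabPt (tab : ℕ → ℕ → ℕ) (inv : ℕ → ℕ) (N : ℕ) (ys : List ℕ) (i : ℕ) : Bool :=
  List.rec (motive := fun _ => Bool) true
    (fun y _ ih => and (Nat.blt (tab y i) N) (and (Nat.beq (tab (inv y) (tab y i)) i) ih)) ys

theorem chkTabPt_spec {tab : ℕ → ℕ → ℕ} {inv : ℕ → ℕ} {N : ℕ} {ys : List ℕ} {i : ℕ}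
    (h : chkTabPt tab inv N ys i = true) : ∀ y ∈ ys, tab y i < N ∧ tab (inv y) (tab y i) = i := by
  induction ys with
  | nil => simp
  | cons y ys ih =>
    have h' : and (Nat.blt (tab y i) N) (and (Nat.beq (tab (inv y) (tab y i)) i) (chkTabPt tab inv N ys i)) = true := h
    rw [Bool.and_eq_true, Bool.and_eq_true] at h'
    obtain ⟨h1, h2, h3⟩ := h'
    intro a ha
    rcases List.mem_cons.mp ha with rfl | ha
    · exact ⟨blt_true h1, Nat.eq_of_beq_eq_true h2⟩
    · exact ih h3 a ha

/-- Check that a word is trivial on a number. -/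
noncomputable def chkWordPt (tab : ℕ → ℕ → ℕ) (w : List ℕ) (i : ℕ) : Bool := Nat.beq (tabW tab w i) i

/-- Check that the points reached are all numbers below `N`: each `i ≥ 1` is reached from a smaller point; digits
of the stream are `j` (25 bits) and `y` (6 bits). -/
noncomputable def chkReach (tab : ℕ → ℕ → ℕ) (ys : List ℕ) (i P : ℕ) : Bool :=
  and (Nat.blt (Nat.land P 33554431) i)
    (and (Nat.beq (tab (Nat.land (Nat.shiftRight P 25) 63) (Nat.land P 33554431)) i)
      (List.elem (Nat.land (Nat.shiftRight P 25) 63) ys))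

section group

variable {Γ : Type*} [Group Γ] {N : ℕ}

/-- Index from a bound and a transitive action. -/
theorem index_eq_of_perm (H : Subgroup Γ) (hpos : 0 < H.index) (hle : H.index ≤ N)
    (ρ : Γ →* Equiv.Perm (Fin N)) (o : Fin N) (hfix : ∀ h ∈ H, ρ h o = o)
    (htrans : ∀ i : Fin N, ∃ g, ρ g o = i) : H.index = N := by
  have hfin : Finite (Γ ⧸ H) := by
    apply Nat.finite_of_card_ne_zero
    show H.index ≠ 0
    omega
  let F : Γ ⧸ H → Fin N := fun q => ρ q.out o
  have hF : Function.Surjective F := by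
    intro i
    obtain ⟨g, hg⟩ := htrans i
    refine ⟨(g : Γ ⧸ H), ?_⟩
    have h1 : (Quotient.out (g : Γ ⧸ H) : Γ)⁻¹ * g ∈ H := by
      have := QuotientGroup.out_eq' (g : Γ ⧸ H)
      exact QuotientGroup.eq.mp this
    have h2 := hfix _ h1
    show ρ (Quotient.out (g : Γ ⧸ H)) o = i
    rw [map_mul, map_inv, Equiv.Perm.mul_apply, Equiv.Perm.inv_eq_iff_eq] at h2
    rw [← h2, hg]
  have := Nat.card_le_card_of_surjective F hF
  simp only [Nat.card_eq_fintype_card, Fintype.card_fin] at this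
  rw [Subgroup.index]
  have h3 : N ≤ Nat.card (Γ ⧸ H) := by simpa using this
  have h4 : Nat.card (Γ ⧸ H) ≤ N := hle
  omega

/-- Reaching all points. -/
theorem reach_all {tab : ℕ → ℕ → ℕ} (ρ : Γ →* Equiv.Perm (Fin N)) (gen : ℕ → Γ) (ys : List ℕ)
    (h0 : 0 < N)
    (hρ : ∀ y ∈ ys, ∀ i : Fin N, ((ρ (gen y) i : Fin N) : ℕ) = tab y i)
    (hr : ∀ i, 0 < i → i < N → ∃ j y, j < i ∧ y ∈ ys ∧ tab y j = i) :
    ∀ i : Fin N, ∃ g, ρ g ⟨0, h0⟩ = i := by
  intro ⟨i, hi⟩
  induction i using Nat.strong_induction_on with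
  | _ i ih =>
    by_cases h : i = 0
    · subst h
      exact ⟨1, by simp⟩
    · obtain ⟨j, y, hj, hy, e⟩ := hr i (by omega) hi
      obtain ⟨g, hg⟩ := ih j hj (by omega)
      refine ⟨gen y * g, ?_⟩
      rw [map_mul, Equiv.Perm.mul_apply, hg]
      apply Fin.ext
      rw [hρ y hy]
      exact e

end group

end Cfsg.Agent.Lib.ToddCox
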