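/-
Coset enumeration certificates for presented groups (helper16).

A letter is a number.  `LT` says which element of the free group a letter stands for, `sg` says which letter stands for
a generator or its inverse (an involution may use the same letter for both).
-/
import Cfsg.Agent.Lib.ToddCox.Perm
import Cfsg.Prelude.Def_SporCoxeter

set_option autoImplicit false
set_option linter.unusedSectionVars false

namespace Cfsg.Agent.Lib.ToddCox

theorem blt_false_of_le {a b : ℕ} (h : b ≤ a) : Nat.blt a b = false := by
  cases hb : Nat.blt a b with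
  | false => rfl
  | true =>
    have := blt_true hb
    omega

theorem blt_true_of_lt {a b : ℕ} (h : a < b) : Nat.blt a b = true := Nat.ble_eq_true_of_le h

theorem land54_lt (x : ℕ) : Nat.land x 18014398509481983 < 18014398509481984 := by
  have h := land_mask x 54
  norm_num at h
  show x &&& 18014398509481983 < 18014398509481984
  rw [h]
  omega

theorem land24_lt (x : ℕ) : Nat.land x 16777215 < 16777216 := by
  have h := land_mask x 24
  norm_num at h
  show x &&& 16777215 < 16777216
  rw [h]
  omega

theorem land6_lt (x : ℕ) : Nat.land x 63 < 64 := by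
  have h := land_mask x 6
  norm_num at h
  show x &&& 63 < 64
  rw [h]
  omega

/-- The inverse of a letter, from a table of digits. -/
def invOf (T y : ℕ) : ℕ := bif Nat.blt y 64 then Nat.land (Nat.shiftRight T (Nat.mul y 6)) 63 else y

theorem invOf_lt (T : ℕ) {y : ℕ} (h : y < 64) : invOf T y < 64 := by
  unfold invOf
  rw [blt_true_of_lt h]
  exact land6_lt _

theorem invOf_ge (T : ℕ) {y : ℕ} (h : 64 ≤ y) : invOf T y = y := by
  unfold invOf
  rw [blt_false_of_le h]
  rfl

/-- Definition events checked in pieces. -/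
theorem defs_of_bits {f : ℕ → Bool} (hi d n : ℕ) (hn : hi ≤ n * 2 ^ d)
    (h : ∀ j, j < n → allBits (fun k => bif Nat.blt k hi then f k else true) d (j * 2 ^ d) = true) :
    ∀ k, k < hi → f k = true := by
  intro k hk
  have hk2 : k / 2 ^ d < n := by
    rw [Nat.div_lt_iff_lt_mul (by positivity)]
    omega
  have h1 := allBits_spec (h _ hk2) k (Nat.div_mul_le_self k (2 ^ d)) (by
    have := Nat.div_add_mod k (2 ^ d)
    have h3 := Nat.mod_lt k (show 2 ^ d > 0 by positivity)
    rw [mul_comm] at this
    omega)
  rw [blt_true_of_lt hk] at h1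
  exact h1

section glue

variable {α : Type} [DecidableEq α]

/-- The letters of an element of a free group, the first letter acting first (so the last letter of the element comes
first). -/
def relW (sg : α → Bool → ℕ) (r : FreeGroup α) : List ℕ :=
  ((FreeGroup.toWord r).map (fun p => sg p.1 p.2)).reverse

theorem lift_eq_wordVal {Φ : Type*} [Group Φ] (φ : α → Φ) (gen : ℕ → Φ) (sg : α → Bool → ℕ)
    (hsg : ∀ x b, gen (sg x b) = cond b (φ x) (φ x)⁻¹) (r : FreeGroup α) :
    FreeGroup.lift φ r = wordVal gen (relW sg r) := by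
  conv_lhs => rw [← FreeGroup.mk_toWord (x := r)]
  rw [FreeGroup.lift_mk]
  simp only [wordVal, relW, List.reverse_reverse, List.map_map]
  congr 1
  apply List.map_congr_left
  intro p _
  exact (hsg p.1 p.2).symm

/-- The value of a letter. -/
def letV {Φ : Type*} [Group Φ] (LT : List (FreeGroup α)) (φ : α → Φ) (y : ℕ) : Φ :=
  FreeGroup.lift φ (LT.getD y 1)

/-- The product in the free group of the letters of a word. -/
def freeVal (LT : List (FreeGroup α)) (w : List ℕ) : FreeGroup α :=
  (w.reverse.map (fun y => LT.getD y 1)).prod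

theorem wordVal_letV {Φ : Type*} [Group Φ] (LT : List (FreeGroup α)) (φ : α → Φ) (w : List ℕ) :
    wordVal (letV LT φ) w = FreeGroup.lift φ (freeVal LT w) := by
  simp only [wordVal, freeVal, map_list_prod, List.map_map]
  rfl

/-- The list of the relators of a labelled graph, without repetitions of nodes. -/
def coxList (edges : List (α × ℕ × α)) : List (FreeGroup α) :=
  (Spor.coxNodes edges).dedup.flatMap fun x => (Spor.coxNodes edges).dedup.map fun y =>
    (FreeGroup.of x * FreeGroup.of y) ^ Spor.coxLabel edges x y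

theorem mem_rels_iff (edges : List (α × ℕ × α)) (extra : List (FreeGroup α)) (r : FreeGroup α) :
    r ∈ Spor.coxRelators edges ∪ {r | r ∈ extra} ↔ r ∈ coxList edges ++ extra := by
  simp only [Spor.coxRelators, coxList, Set.mem_union, Set.mem_ofPred_eq, List.mem_append, List.mem_flatMap,
    List.mem_map, List.mem_dedup]
  constructor
  · rintro (⟨x, hx, y, hy, rfl⟩ | h)
    · exact Or.inl ⟨x, hx, y, hy, rfl⟩
    · exact Or.inr h
  · rintro (⟨x, hx, y, hy, rfl⟩ | h)
    · exact Or.inl ⟨x, hx, y, hy, rfl⟩
    · exact Or.inr h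

end glue

section upper

variable {α : Type} [DecidableEq α] {rels : Set (FreeGroup α)}

/-- The letters of a presented group. -/
def genP (rels : Set (FreeGroup α)) (LT : List (FreeGroup α)) (y : ℕ) : PresentedGroup rels :=
  PresentedGroup.mk rels (LT.getD y 1)

theorem mk_eq_lift (r : FreeGroup α) :
    PresentedGroup.mk rels r = FreeGroup.lift (PresentedGroup.of : α → PresentedGroup rels) r := by
  have : (PresentedGroup.mk rels) = FreeGroup.lift (PresentedGroup.of : α → PresentedGroup rels) := by
    ext x
    simp [PresentedGroup.of]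
  rw [this]

theorem wordVal_genP (LT : List (FreeGroup α)) (w : List ℕ) :
    wordVal (genP rels LT) w = PresentedGroup.mk rels (freeVal LT w) := by
  simp only [wordVal, freeVal, map_list_prod, List.map_map]
  rfl

/-- The data of letters, and the facts about them. -/
structure LettersOK (rels : Set (FreeGroup α)) (RL : List (FreeGroup α)) (Iv : List α)
    (LT : List (FreeGroup α)) (sg : α → Bool → ℕ) (inv : ℕ → ℕ) : Prop where
  rl : ∀ r ∈ RL, r ∈ rels
  iv : ∀ x ∈ Iv, [(x, true), (x, true)] ∈ RL.map FreeGroup.toWord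
  sgv : ∀ x b, LT.getD (sg x b) 1 = cond b (FreeGroup.of x) (FreeGroup.of x)⁻¹ ∨
    (LT.getD (sg x b) 1 = FreeGroup.of x ∧ x ∈ Iv)
  invv : ∀ y, LT.getD (inv y) 1 = (LT.getD y 1)⁻¹ ∨
    (∃ x ∈ Iv, LT.getD y 1 = FreeGroup.of x ∧ LT.getD (inv y) 1 = FreeGroup.of x)

variable {RL : List (FreeGroup α)} {Iv : List α} {LT : List (FreeGroup α)} {sg : α → Bool → ℕ} {inv : ℕ → ℕ}

theorem LettersOK.iv_of (h : LettersOK rels RL Iv LT sg inv) {x : α} (hx : x ∈ Iv) :
    (PresentedGroup.of x : PresentedGroup rels)⁻¹ = PresentedGroup.of x := by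
  obtain ⟨r, hr, e⟩ := List.mem_map.mp (h.iv x hx)
  have h1 : PresentedGroup.mk rels r = 1 := PresentedGroup.one_of_mem (h.rl r hr)
  have h2 : r = FreeGroup.of x * FreeGroup.of x := by
    apply FreeGroup.toWord_injective
    rw [e, FreeGroup.toWord_mul, FreeGroup.toWord_of]
    have := FreeGroup.reduce_toWord r
    rw [e] at this
    exact this.symm
  rw [h2, map_mul] at h1
  exact (inv_eq_of_mul_eq_one_left h1)

theorem LettersOK.genInv (h : LettersOK rels RL Iv LT sg inv) (y : ℕ) :
    genP rels LT (inv y) = (genP rels LT y)⁻¹ := by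
  rcases h.invv y with e | ⟨x, hx, e1, e2⟩
  · simp only [genP, e, map_inv]
  · simp only [genP, e1, e2]
    exact (h.iv_of hx).symm

theorem LettersOK.genSg (h : LettersOK rels RL Iv LT sg inv) (x : α) (b : Bool) :
    genP rels LT (sg x b) = cond b (PresentedGroup.of x) (PresentedGroup.of x)⁻¹ := by
  rcases h.sgv x b with e | ⟨e, hx⟩
  · cases b
    · simp only [genP, e, cond_false, map_inv]
      rfl
    · simp only [genP, e, cond_true]
      rfl
  · cases b
    · simp only [genP, e, cond_false, h.iv_of hx]
      rfl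
    · simp only [genP, e, cond_true]
      rfl

/-- A relator word holds, if it comes from a relator or is trivial in the free group. -/
theorem LettersOK.word (h : LettersOK rels RL Iv LT sg inv) {w : List ℕ}
    (hw : w ∈ RL.map (relW sg) ∨ freeVal LT w = 1) : wordVal (genP rels LT) w = 1 := by
  rcases hw with hw | hw
  · obtain ⟨r, hr, rfl⟩ := List.mem_map.mp hw
    have h1 := lift_eq_wordVal (PresentedGroup.of : α → PresentedGroup rels) (genP rels LT) sg h.genSg r
    rw [← h1, ← mk_eq_lift]
    exact PresentedGroup.one_of_mem (h.rl r hr)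
  · rw [wordVal_genP, hw, map_one]

/-- The relator words of a certificate: a list, then trivial words. -/
def relR (Rb : List (List ℕ)) (inv : ℕ → ℕ) (r : ℕ) : List ℕ :=
  bif Nat.blt r Rb.length then Rb.getD r [] else [r - Rb.length, inv (r - Rb.length)]

/-- The validity of a word table by a specification table. -/
def wordsOK (W : ℕ → List ℕ) (R : ℕ → List ℕ) (inv sp : ℕ → ℕ) (j : ℕ) : Bool :=
  decide (stripId (headLast (W j)) = specW R inv (sp j % 2) (sp j / 2 % 4096) (sp j / 8192))

/-- The condition on inverse letters. -/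
theorem invv_of {LT : List (FreeGroup α)} {Iv : List α} {T : ℕ} (hlen : LT.length ≤ 64)
    (h : ∀ y ∈ List.range 64, LT.getD (invOf T y) 1 = (LT.getD y 1)⁻¹ ∨
      (∃ x ∈ Iv, LT.getD y 1 = FreeGroup.of x ∧ LT.getD (invOf T y) 1 = FreeGroup.of x)) (y : ℕ) :
    LT.getD (invOf T y) 1 = (LT.getD y 1)⁻¹ ∨
      (∃ x ∈ Iv, LT.getD y 1 = FreeGroup.of x ∧ LT.getD (invOf T y) 1 = FreeGroup.of x) := by
  by_cases hy : y < 64
  · exact h y (List.mem_range.mpr hy)
  · left
    rw [invOf_ge T (by omega), List.getD_eq_default _ _ (by omega)]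
    simp

/-- The main bound for a presented group. -/
theorem pres_index_le (h : LettersOK rels RL Iv LT sg inv) (H : Subgroup (PresentedGroup rels))
    (Eo : ℕ → ℕ) (W : ℕ → List ℕ) (isH : ℕ → Bool)
    (hinvlt : ∀ y, y < 64 → inv y < 64) (hEo : ∀ r, Eo r < 18014398509481984)
    (hid : LT.getD 63 1 = 1)
    (Rb : List (List ℕ)) (hRb : ∀ w ∈ Rb, w ∈ RL.map (relW sg) ∨ freeVal LT w = 1)
    (nW : ℕ) (hW0 : ∀ j, nW ≤ j → W j = [])
    (sp : ℕ → ℕ) (hW1 : ∀ j, j < nW → wordsOK W (relR Rb inv) inv sp j = true)
    (hH : ∀ y, isH y = true → PresentedGroup.mk rels (LT.getD y 1) ∈ H)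
    {nDef nEv : ℕ} (hdef : ∀ c, c < nDef → chkDef Eo inv c = true)
    (hchk : Covered Eo inv W isH nDef nEv)
    {N : ℕ} (hN : 0 < N) (cF : ℕ → ℕ) (hc0 : cF 0 = 0) (hclt : ∀ i, cF i < 16777216) (ys : List ℕ)
    (hys : ∀ x, sg x true ∈ ys)
    (hlinks : LinksOK Eo cF (2 * nEv) N ys 0 N) : 0 < H.index ∧ H.index ≤ N := by
  have hgeninv := h.genInv
  let act : ℕ → PresentedGroup rels ⧸ H → PresentedGroup rels ⧸ H := fun y q => genP rels LT y • q
  have hR : ∀ r p, actW act (relR Rb inv r) p = p := by
    intro r p
    have : wordVal (genP rels LT) (relR Rb inv r) = 1 := by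
      unfold relR
      by_cases hr : r < Rb.length
      · have hb : Nat.blt r Rb.length = true := Nat.ble_eq_true_of_le hr
        rw [hb]
        show wordVal (genP rels LT) (Rb.getD r []) = 1
        rw [List.getD_eq_getElem _ _ hr]
        exact h.word (hRb _ (List.getElem_mem hr))
      · have hb : Nat.blt r Rb.length = false := by
          cases hb : Nat.blt r Rb.length with
          | false => rfl
          | true => exact absurd (blt_true hb) hr
        rw [hb]
        show wordVal (genP rels LT) [r - Rb.length, inv (r - Rb.length)] = 1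
        simp [wordVal, hgeninv]
    have h2 := actW_gen H (genP rels LT) (relR Rb inv r) p
    show actW (fun y (q : PresentedGroup rels ⧸ H) => genP rels LT y • q) _ p = p
    rw [h2, this, one_smul]
  have hinv1 : ∀ y p, act (inv y) (act y p) = p := by
    intro y p
    show genP rels LT (inv y) • genP rels LT y • p = p
    rw [hgeninv, inv_smul_smul]
  have hinv2 : ∀ y p, act y (act (inv y) p) = p := by
    intro y p
    show genP rels LT y • genP rels LT (inv y) • p = p
    rw [hgeninv, smul_inv_smul]
  have hid' : ∀ p, act 63 p = p := by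
    intro p
    show genP rels LT 63 • p = p
    unfold genP
    rw [hid, map_one, one_smul]
  have hW : ∀ w, ValidHead (fun y (q : PresentedGroup rels ⧸ H) => genP rels LT y • q) (W w) := by
    intro j
    by_cases hj : j < nW
    · have := hW1 j hj
      unfold wordsOK at this
      exact valid_of_spec act inv hinv1 hinv2 hid' (relR Rb inv) hR (of_decide_eq_true this)
    · rw [hW0 j (by omega)]
      trivial
  refine index_le_cert H (genP rels LT) Eo inv W isH hinvlt hEo hgeninv hW hH hdef hchk hN cF hc0 hclt ys ?_ hlinks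
  rw [eq_top_iff, ← PresentedGroup.closure_range_of rels, Subgroup.closure_le]
  rintro _ ⟨x, rfl⟩
  apply Subgroup.subset_closure
  refine ⟨sg x true, hys x, ?_⟩
  rw [h.genSg x true]
  rfl

end upper

section lower

variable {α : Type} [DecidableEq α] {rels : Set (FreeGroup α)} {RL : List (FreeGroup α)}
variable {tab : ℕ → ℕ → ℕ} {inv : ℕ → ℕ} {N m : ℕ} (hT : TabOK tab inv N m) {sg : α → Bool → ℕ}

theorem wordVal_invW {Φ : Type*} [Group Φ] (gen : ℕ → Φ) (inv : ℕ → ℕ) (w : List ℕ)
    (h : ∀ y ∈ w, gen (inv y) = (gen y)⁻¹) : wordVal gen (invW inv w) = (wordVal gen w)⁻¹ := by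
  induction w with
  | nil => simp [wordVal, invW]
  | cons a w ih =>
    have h1 : invW inv (a :: w) = invW inv w ++ [inv a] := by
      simp [invW]
    have h2 : wordVal gen (invW inv w ++ [inv a]) = gen (inv a) * wordVal gen (invW inv w) := by
      simp [wordVal]
    rw [h1, h2, wordVal_cons, mul_inv_rev, ih (fun y hy => h y (List.mem_cons_of_mem a hy)),
      h a List.mem_cons_self]

/-- A homomorphism from the presented group by tables. -/
noncomputable def presHom (hRL : ∀ r, r ∈ rels → r ∈ RL)
    (hsgm : ∀ x, sg x true < m) (hsgf : ∀ x, sg x false = inv (sg x true))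
    (hRel : ∀ r ∈ RL, wordVal (permL hT) (relW sg r) = 1) :
    PresentedGroup rels →* Equiv.Perm (Fin N) :=
  PresentedGroup.toGroup (f := fun x => permL hT (sg x true)) (fun r hr => by
    rw [lift_eq_wordVal (fun x => permL hT (sg x true)) (permL hT) sg ?_ r]
    · exact hRel r (hRL r hr)
    · intro x b
      cases b
      · simp only [cond_false]
        rw [hsgf, permL_inv hT (hsgm x)]
      · rfl)

theorem presHom_mk (hRL : ∀ r, r ∈ rels → r ∈ RL)
    (hsgm : ∀ x, sg x true < m) (hsgf : ∀ x, sg x false = inv (sg x true))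
    (hRel : ∀ r ∈ RL, wordVal (permL hT) (relW sg r) = 1) (hlet : ∀ x b, sg x b < m) (r : FreeGroup α) (i : Fin N) :
    ((presHom hT hRL hsgm hsgf hRel (PresentedGroup.mk rels r) i : Fin N) : ℕ) = tabW tab (relW sg r) i := by
  have h1 : presHom hT hRL hsgm hsgf hRel (PresentedGroup.mk rels r)
      = FreeGroup.lift (fun x => permL hT (sg x true)) r := rfl
  rw [h1, lift_eq_wordVal (fun x => permL hT (sg x true)) (permL hT) sg ?_ r]
  · apply permL_word hT
    intro a ha
    simp only [relW, List.mem_reverse, List.mem_map] at ha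
    obtain ⟨p, _, rfl⟩ := ha
    exact hlet _ _
  · intro x b
    cases b
    · simp only [cond_false]
      rw [hsgf, permL_inv hT (hsgm x)]
    · rfl

end lower

end Cfsg.Agent.Lib.ToddCox
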