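/-
Permutation representations of presented groups from tables, indices, orbits of a subgroup on cosets (helper16).
-/
import Cfsg.Agent.Lib.ToddCox.Glue

set_option autoImplicit false
set_option linter.unusedSectionVars false

namespace Cfsg.Agent.Lib.ToddCox

/-- Check of relators at a point. -/
noncomputable def chkRelPt (tab : ℕ → ℕ → ℕ) (Rc : List (List ℕ)) (i : ℕ) : Bool :=
  List.rec (motive := fun _ => Bool) true (fun w _ ih => and (Nat.beq (tabW tab w i) i) ih) Rc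

theorem chkRelPt_spec {tab : ℕ → ℕ → ℕ} {Rc : List (List ℕ)} {i : ℕ} (h : chkRelPt tab Rc i = true) :
    ∀ w ∈ Rc, tabW tab w i = i := by
  induction Rc with
  | nil => simp
  | cons w Rc ih =>
    have h' : and (Nat.beq (tabW tab w i) i) (chkRelPt tab Rc i) = true := h
    rw [Bool.and_eq_true] at h'
    intro u hu
    rcases List.mem_cons.mp hu with rfl | hu
    · exact Nat.eq_of_beq_eq_true h'.1
    · exact ih h'.2 u hu

/-- All checks at a point. -/
noncomputable def chkPt (tab : ℕ → ℕ → ℕ) (inv : ℕ → ℕ) (N : ℕ) (ys : List ℕ) (Rc : List (List ℕ)) (i : ℕ) : Bool :=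
  and (chkTabPt tab inv N ys i) (chkRelPt tab Rc i)

section rep

variable {α : Type} [DecidableEq α] {rels : Set (FreeGroup α)} {RL : List (FreeGroup α)}
variable {tab : ℕ → ℕ → ℕ} {inv : ℕ → ℕ} {N m : ℕ} {sg : α → Bool → ℕ} {ys : List ℕ} {Rc : List (List ℕ)}

theorem tabOK_of_pts (hm : ∀ y, y < m → y ∈ ys) (hinv1 : ∀ y, y < m → inv y < m)
    (hinv2 : ∀ y, y < m → inv (inv y) = y) (hpts : ∀ i, i < N → chkTabPt tab inv N ys i = true) :
    TabOK tab inv N m where
  lt := fun y hy i hi => (chkTabPt_spec (hpts i hi) y (hm y hy)).1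
  invlt := hinv1
  invinv := hinv2
  invr := fun y hy i hi => (chkTabPt_spec (hpts i hi) y (hm y hy)).2

/-- A permutation representation from tables. -/
theorem exists_rep (hRL : ∀ r, r ∈ rels → r ∈ RL) (hm : ∀ y, y < m → y ∈ ys)
    (hinv1 : ∀ y, y < m → inv y < m) (hinv2 : ∀ y, y < m → inv (inv y) = y)
    (hsgm : ∀ x b, sg x b < m) (hsgf : ∀ x, sg x false = inv (sg x true))
    (hRc : ∀ r ∈ RL, relW sg r ∈ Rc ∨ invW inv (relW sg r) ∈ Rc)
    (hpts : ∀ i, i < N → chkPt tab inv N ys Rc i = true) :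
    ∃ ρ : PresentedGroup rels →* Equiv.Perm (Fin N),
      ∀ r (i : Fin N), ((ρ (PresentedGroup.mk rels r) i : Fin N) : ℕ) = tabW tab (relW sg r) i := by
  have hpts' : ∀ i, i < N → chkTabPt tab inv N ys i = true ∧ chkRelPt tab Rc i = true := by
    intro i hi
    have h := hpts i hi
    unfold chkPt at h
    rwa [Bool.and_eq_true] at h
  have hT : TabOK tab inv N m := tabOK_of_pts hm hinv1 hinv2 (fun i hi => (hpts' i hi).1)
  have hlet : ∀ r, ∀ a ∈ relW sg r, a < m := by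
    intro r a ha
    simp only [relW, List.mem_reverse, List.mem_map] at ha
    obtain ⟨p, _, rfl⟩ := ha
    exact hsgm _ _
  have hRel : ∀ r ∈ RL, wordVal (permL hT) (relW sg r) = 1 := by
    intro r hr
    rcases hRc r hr with h | h
    · exact word_eq_one hT (hlet r) (fun i hi => chkRelPt_spec (hpts' i hi).2 _ h)
    · have h1 : wordVal (permL hT) (invW inv (relW sg r)) = 1 := by
        apply word_eq_one hT
        · intro a ha
          simp only [invW, List.mem_map, List.mem_reverse] at ha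
          obtain ⟨b, hb, rfl⟩ := ha
          exact hinv1 b (hlet r b hb)
        · exact fun i hi => chkRelPt_spec (hpts' i hi).2 _ h
      rw [wordVal_invW (permL hT) inv _ (fun y hy => permL_inv hT (hlet r y hy))] at h1
      exact inv_eq_one.mp h1
  refine ⟨presHom hT hRL (fun x => hsgm x true) hsgf hRel, ?_⟩
  exact presHom_mk hT hRL (fun x => hsgm x true) hsgf hRel hsgm

variable {ρ : PresentedGroup rels →* Equiv.Perm (Fin N)}

/-- The subgroup generated by a list of elements of the free group. -/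
def subG (rels : Set (FreeGroup α)) (Sl : List (FreeGroup α)) : Subgroup (PresentedGroup rels) :=
  (Subgroup.closure {r | r ∈ Sl}).map (PresentedGroup.mk rels)

theorem subG_fix (hρ : ∀ r (i : Fin N), ((ρ (PresentedGroup.mk rels r) i : Fin N) : ℕ) = tabW tab (relW sg r) i)
    {Sl : List (FreeGroup α)} {o : Fin N} (hfix : ∀ s ∈ Sl, tabW tab (relW sg s) o = o) :
    ∀ h ∈ subG rels Sl, ρ h o = o := by
  rintro h ⟨r, hr, rfl⟩
  have hr' : r ∈ Subgroup.closure {r | r ∈ Sl} := hr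
  induction hr' using Subgroup.closure_induction with
  | mem x hx =>
    apply Fin.ext
    rw [hρ]
    exact hfix x hx
  | one => simp
  | mul a b _ _ iha ihb =>
    have h1 := iha (Subgroup.mul_mem_cancel_right _ ‹_› |>.mp hr)
    have h2 := ihb ‹_›
    rw [map_mul, map_mul, Equiv.Perm.mul_apply, h2, h1]
  | inv a _ iha =>
    have h1 := iha ‹_›
    rw [map_inv, map_inv, Equiv.Perm.inv_eq_iff_eq, h1]

/-- Transitivity from reach data. -/
theorem rep_trans (hρ : ∀ r (i : Fin N), ((ρ (PresentedGroup.mk rels r) i : Fin N) : ℕ) = tabW tab (relW sg r) i)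
    {Gl : List (FreeGroup α)} (h0 : 0 < N)
    (hreach : ∀ i, 0 < i → i < N → ∃ j, j < i ∧ ∃ s ∈ Gl, tabW tab (relW sg s) j = i) :
    ∀ i : Fin N, ∃ g, ρ g ⟨0, h0⟩ = i := by
  intro ⟨i, hi⟩
  induction i using Nat.strong_induction_on with
  | _ i ih =>
    by_cases h : i = 0
    · subst h
      exact ⟨1, by simp⟩
    · obtain ⟨j, hj, s, _, e⟩ := hreach i (by omega) hi
      obtain ⟨g, hg⟩ := ih j hj (by omega)
      refine ⟨PresentedGroup.mk rels s * g, ?_⟩
      rw [map_mul, Equiv.Perm.mul_apply, hg]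
      apply Fin.ext
      rw [hρ]
      exact e

/-- The index of a subgroup generated by a list. -/
theorem index_eq_of_rep (hρ : ∀ r (i : Fin N), ((ρ (PresentedGroup.mk rels r) i : Fin N) : ℕ) = tabW tab (relW sg r) i)
    {Sl Gl : List (FreeGroup α)} (h0 : 0 < N) (hup : 0 < (subG rels Sl).index ∧ (subG rels Sl).index ≤ N)
    (hfix : ∀ s ∈ Sl, tabW tab (relW sg s) 0 = 0)
    (hreach : ∀ i, 0 < i → i < N → ∃ j, j < i ∧ ∃ s ∈ Gl, tabW tab (relW sg s) j = i) :
    (subG rels Sl).index = N :=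
  index_eq_of_perm (subG rels Sl) hup.1 hup.2 ρ ⟨0, h0⟩ (subG_fix hρ hfix) (rep_trans hρ h0 hreach)

end rep

section orbits

variable {Γ : Type*} [Group Γ] {N : ℕ} (H : Subgroup Γ) (ρ : Γ →* Equiv.Perm (Fin N)) (o : Fin N)

/-- The map from cosets to points. -/
noncomputable def cosetPt (q : Γ ⧸ H) : Fin N := ρ q.out o

variable {H ρ o}

theorem cosetPt_mk (hfix : ∀ h ∈ H, ρ h o = o) (g : Γ) : cosetPt H ρ o (g : Γ ⧸ H) = ρ g o := by
  have h1 : (Quotient.out (g : Γ ⧸ H) : Γ)⁻¹ * g ∈ H := by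
    have := QuotientGroup.out_eq' (g : Γ ⧸ H)
    exact QuotientGroup.eq.mp this
  have h2 := hfix _ h1
  rw [map_mul, map_inv, Equiv.Perm.mul_apply, Equiv.Perm.inv_eq_iff_eq] at h2
  exact h2.symm

theorem cosetPt_bij (hfix : ∀ h ∈ H, ρ h o = o) (htrans : ∀ i : Fin N, ∃ g, ρ g o = i) (hidx : H.index = N) :
    Function.Bijective (cosetPt H ρ o) := by
  have hpos : N ≠ 0 := by
    intro h0
    exact Fin.elim0 (h0 ▸ o)
  have hfin : Finite (Γ ⧸ H) := by
    apply Nat.finite_of_card_ne_zero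
    show H.index ≠ 0
    omega
  have hs : Function.Surjective (cosetPt H ρ o) := by
    intro i
    obtain ⟨g, hg⟩ := htrans i
    exact ⟨(g : Γ ⧸ H), by rw [cosetPt_mk hfix, hg]⟩
  refine Function.Surjective.bijective_of_nat_card_le hs ?_
  simp only [Nat.card_eq_fintype_card, Fintype.card_fin]
  exact hidx.le

theorem cosetPt_smul (hfix : ∀ h ∈ H, ρ h o = o) (h : H) (q : Γ ⧸ H) :
    cosetPt H ρ o (h • q) = ρ (h : Γ) (cosetPt H ρ o q) := by
  obtain ⟨g, rfl⟩ := QuotientGroup.mk_surjective q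
  have h1 : h • ((g : Γ) : Γ ⧸ H) = (((h : Γ) * g : Γ) : Γ ⧸ H) := rfl
  rw [h1, cosetPt_mk hfix, cosetPt_mk hfix, map_mul, Equiv.Perm.mul_apply]

/-- An interval of points which the generators of `H` preserve and which they connect is an orbit of `H`. -/
theorem orbit_of_block (hfix : ∀ h ∈ H, ρ h o = o) (htrans : ∀ i : Fin N, ∃ g, ρ g o = i) (hidx : H.index = N)
    {S : Set Γ} (hS : H = Subgroup.closure S) {lo hi : ℕ} (hlo : lo < hi) (hhi : hi ≤ N)
    (hB1 : ∀ s ∈ S, ∀ i : Fin N, lo ≤ (i : ℕ) → (i : ℕ) < hi → lo ≤ (ρ s i : ℕ) ∧ (ρ s i : ℕ) < hi)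
    (hB2 : ∀ i : Fin N, lo < (i : ℕ) → (i : ℕ) < hi → ∃ j : Fin N, lo ≤ (j : ℕ) ∧ (j : ℕ) < i ∧ ∃ s ∈ S, ρ s j = i) :
    ∃ q : Γ ⧸ H, (cosetPt H ρ o q : ℕ) = lo ∧
      (∀ q', q' ∈ MulAction.orbit H q ↔ lo ≤ (cosetPt H ρ o q' : ℕ) ∧ (cosetPt H ρ o q' : ℕ) < hi) ∧
      (MulAction.orbit H q).ncard = hi - lo := by
  classical
  have hbij := cosetPt_bij hfix htrans hidx
  have hsub : S ⊆ H := by
    rw [hS]
    exact Subgroup.subset_closure
  -- elements of H preserve the block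
  let B : Set (Fin N) := {i | lo ≤ (i : ℕ) ∧ (i : ℕ) < hi}
  have hpres : ∀ h ∈ H, Set.MapsTo (ρ h) B B := by
    intro h hh
    rw [hS] at hh
    induction hh using Subgroup.closure_induction with
    | mem x hx => exact fun i hi' => hB1 x hx i hi'.1 hi'.2
    | one => simp [Set.MapsTo]
    | mul a b _ _ iha ihb =>
      rw [map_mul]
      exact iha.comp ihb
    | inv a _ iha =>
      rw [map_inv]
      exact Equiv.Perm.perm_symm_mapsTo_of_mapsTo (ρ a) iha
  -- the representative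
  let p0 : Fin N := ⟨lo, by omega⟩
  obtain ⟨q0, hq0⟩ := hbij.2 p0
  have hq0' : (cosetPt H ρ o q0 : ℕ) = lo := by rw [hq0]
  have hreach0 : ∀ (i : ℕ) (hiN : i < N), lo ≤ i → i < hi → ∃ h ∈ H, ρ h p0 = ⟨i, hiN⟩ := by
    intro i
    induction i using Nat.strong_induction_on with
    | _ i ih =>
      intro hiN h1 h2
      by_cases hc : i = lo
      · have hc2 : (⟨i, hiN⟩ : Fin N) = p0 := Fin.ext hc
        exact ⟨1, H.one_mem, by rw [hc2]; simp⟩
      · obtain ⟨j, hj1, hj2, s, hs, e⟩ := hB2 ⟨i, hiN⟩ (show lo < i by omega) h2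
        have hj3 : (j : ℕ) < i := hj2
        obtain ⟨h, hh, e2⟩ := ih j hj3 j.2 hj1 (by omega)
        refine ⟨s * h, H.mul_mem (hsub hs) hh, ?_⟩
        rw [map_mul, Equiv.Perm.mul_apply, e2]
        exact e
  have hreach : ∀ i : Fin N, lo ≤ (i : ℕ) → (i : ℕ) < hi → ∃ h ∈ H, ρ h p0 = i :=
    fun i h1 h2 => hreach0 i i.2 h1 h2
  have hmem : ∀ q', q' ∈ MulAction.orbit H q0 ↔ lo ≤ (cosetPt H ρ o q' : ℕ) ∧ (cosetPt H ρ o q' : ℕ) < hi := by
    intro q'
    constructor
    · rintro ⟨h, rfl⟩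
      show lo ≤ (cosetPt H ρ o (h • q0) : ℕ) ∧ (cosetPt H ρ o (h • q0) : ℕ) < hi
      rw [cosetPt_smul hfix]
      have : ρ h (cosetPt H ρ o q0) ∈ B :=
        hpres h h.2 (show cosetPt H ρ o q0 ∈ B from ⟨by rw [hq0'], by rw [hq0']; exact hlo⟩)
      exact this
    · rintro ⟨h1, h2⟩
      obtain ⟨h, hh, e⟩ := hreach _ h1 h2
      refine ⟨⟨h, hh⟩, ?_⟩
      apply hbij.1
      show cosetPt H ρ o ((⟨h, hh⟩ : H) • q0) = _
      rw [cosetPt_smul hfix, hq0]
      exact e
  refine ⟨q0, hq0', hmem, ?_⟩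
  have heq : MulAction.orbit H q0 = (cosetPt H ρ o) ⁻¹' B := by
    ext q'
    exact hmem q'
  have h3 : (cosetPt H ρ o) '' (MulAction.orbit H q0) = B := by
    rw [heq]
    exact Set.image_preimage_eq _ hbij.2
  have h4 := Set.ncard_image_of_injective (MulAction.orbit H q0) hbij.1
  rw [h3] at h4
  rw [← h4]
  have h5 : (Fin.val '' B) = Set.Ico lo hi := by
    ext n
    constructor
    · rintro ⟨i, hi', rfl⟩
      exact hi'
    · intro hn
      exact ⟨⟨n, by have := hn.2; omega⟩, hn, rfl⟩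
  have h6 := Set.ncard_image_of_injective B (Fin.val_injective (n := N))
  rw [← h6, h5, Set.ncard_eq_toFinset_card']
  simp

end orbits

section blocks

variable {α : Type} [DecidableEq α] {rels : Set (FreeGroup α)}
variable {tab : ℕ → ℕ → ℕ} {N : ℕ} {sg : α → Bool → ℕ}

/-- An orbit of a subgroup given by a list, from tables. -/
theorem orbit_of_tables {ρ : PresentedGroup rels →* Equiv.Perm (Fin N)}
    (hρ : ∀ r (i : Fin N), ((ρ (PresentedGroup.mk rels r) i : Fin N) : ℕ) = tabW tab (relW sg r) i)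
    {Sl Gl : List (FreeGroup α)} (h0 : 0 < N) (hup : 0 < (subG rels Sl).index ∧ (subG rels Sl).index ≤ N)
    (hfix : ∀ s ∈ Sl, tabW tab (relW sg s) 0 = 0)
    (hreach : ∀ i, 0 < i → i < N → ∃ j, j < i ∧ ∃ s ∈ Gl, tabW tab (relW sg s) j = i)
    {lo hi : ℕ} (hlo : lo < hi) (hhi : hi ≤ N)
    (hB1 : ∀ s ∈ Sl, ∀ i, lo ≤ i → i < hi → lo ≤ tabW tab (relW sg s) i ∧ tabW tab (relW sg s) i < hi)
    (hB2 : ∀ i, lo < i → i < hi → ∃ j, lo ≤ j ∧ j < i ∧ ∃ s ∈ Sl, tabW tab (relW sg s) j = i) :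
    ∃ q : PresentedGroup rels ⧸ subG rels Sl, (cosetPt (subG rels Sl) ρ ⟨0, h0⟩ q : ℕ) = lo ∧
      (∀ q', q' ∈ MulAction.orbit (subG rels Sl) q ↔
        lo ≤ (cosetPt (subG rels Sl) ρ ⟨0, h0⟩ q' : ℕ) ∧ (cosetPt (subG rels Sl) ρ ⟨0, h0⟩ q' : ℕ) < hi) ∧
      (MulAction.orbit (subG rels Sl) q).ncard = hi - lo := by
  refine orbit_of_block (subG_fix hρ hfix) (rep_trans hρ h0 hreach) (index_eq_of_rep hρ h0 hup hfix hreach)
    (S := PresentedGroup.mk rels '' {r | r ∈ Sl}) ?_ hlo hhi ?_ ?_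
  · unfold subG
    rw [MonoidHom.map_closure]
  · rintro _ ⟨s, hs, rfl⟩ i h1 h2
    rw [hρ]
    exact hB1 s hs i h1 h2
  · intro i h1 h2
    obtain ⟨j, hj1, hj2, s, hs, e⟩ := hB2 i h1 h2
    refine ⟨⟨j, by have := i.2; omega⟩, hj1, hj2, _, ⟨s, hs, rfl⟩, ?_⟩
    apply Fin.ext
    rw [hρ]
    exact e

end blocks

theorem subG_mem {α : Type} {rels : Set (FreeGroup α)} {Sl : List (FreeGroup α)} {r : FreeGroup α} (h : r ∈ Sl) :
    PresentedGroup.mk rels r ∈ subG rels Sl :=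
  Subgroup.mem_map_of_mem _ (Subgroup.subset_closure h)

/-! ### Checks of reach data and blocks -/

/-- A reach step: the digit `d` holds a point and the number of a word. -/
noncomputable def chkReachPt (tab : ℕ → ℕ → ℕ) (Tw : List (List ℕ)) (i d : ℕ) : Bool :=
  and (Nat.blt (Nat.land d 33554431) i)
    (and (Nat.blt (Nat.shiftRight d 25) Tw.length)
      (Nat.beq (tabW tab (Tw.getD (Nat.shiftRight d 25) []) (Nat.land d 33554431)) i))

theorem chkReachPt_spec {tab : ℕ → ℕ → ℕ} {Tw : List (List ℕ)} {i d : ℕ} (h : chkReachPt tab Tw i d = true) :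
    ∃ j, j < i ∧ ∃ w ∈ Tw, tabW tab w j = i := by
  unfold chkReachPt at h
  rw [Bool.and_eq_true, Bool.and_eq_true] at h
  obtain ⟨h1, h2, h3⟩ := h
  have h4 := blt_true h2
  refine ⟨_, blt_true h1, Tw.getD (Nat.shiftRight d 25) [], ?_, Nat.eq_of_beq_eq_true h3⟩
  rw [List.getD_eq_getElem _ _ h4]
  exact List.getElem_mem h4

/-- The check at a point of a block. -/
noncomputable def chkBlockPt (tab : ℕ → ℕ → ℕ) (Tw : List (List ℕ)) (lo hi i d : ℕ) : Bool :=
  and (List.rec (motive := fun _ => Bool) true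
    (fun w _ ih => and (Nat.ble lo (tabW tab w i)) (and (Nat.blt (tabW tab w i) hi) ih)) Tw)
    (bif Nat.beq i lo then true else
      and (Nat.ble lo (Nat.land d 33554431)) (chkReachPt tab Tw i d))

theorem chkBlockPt_spec {tab : ℕ → ℕ → ℕ} {Tw : List (List ℕ)} {lo hi i d : ℕ}
    (h : chkBlockPt tab Tw lo hi i d = true) :
    (∀ w ∈ Tw, lo ≤ tabW tab w i ∧ tabW tab w i < hi) ∧
      (lo < i → ∃ j, lo ≤ j ∧ j < i ∧ ∃ w ∈ Tw, tabW tab w j = i) := by
  unfold chkBlockPt at h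
  rw [Bool.and_eq_true] at h
  obtain ⟨h1, h2⟩ := h
  refine ⟨?_, ?_⟩
  · clear h2
    induction Tw with
    | nil => simp
    | cons w Tw ih =>
      have h' : and (Nat.ble lo (tabW tab w i)) (and (Nat.blt (tabW tab w i) hi)
        (List.rec (motive := fun _ => Bool) true
          (fun w _ ih => and (Nat.ble lo (tabW tab w i)) (and (Nat.blt (tabW tab w i) hi) ih)) Tw)) = true := h1
      rw [Bool.and_eq_true, Bool.and_eq_true] at h'
      intro u hu
      rcases List.mem_cons.mp hu with rfl | hu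
      · exact ⟨Nat.le_of_ble_eq_true h'.1, blt_true h'.2.1⟩
      · exact ih h'.2.2 u hu
  · intro hl
    have hne : Nat.beq i lo = false := beq_false (by omega)
    rw [hne] at h2
    simp only [cond_false] at h2
    rw [Bool.and_eq_true] at h2
    unfold chkReachPt at h2
    simp only [Bool.and_eq_true] at h2
    obtain ⟨h3, h4, h5, h6⟩ := h2
    have h7 := blt_true h5
    refine ⟨_, Nat.le_of_ble_eq_true h3, blt_true h4, Tw.getD (Nat.shiftRight d 25) [], ?_, Nat.eq_of_beq_eq_true h6⟩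
    rw [List.getD_eq_getElem _ _ h7]
    exact List.getElem_mem h7

/-- The facts for the points, from the checks. -/
theorem facts_of_chkAll {tab : ℕ → ℕ → ℕ} {inv : ℕ → ℕ} {N : ℕ} {ys : List ℕ} {Rc Tw : List (List ℕ)} {pr : ℕ → ℕ}
    (h : ∀ i, i < N → (bif Nat.blt i N then and (chkPt tab inv N ys Rc i)
      (bif Nat.beq i 0 then true else chkReachPt tab Tw i (pr i)) else true) = true) :
    (∀ i, i < N → chkPt tab inv N ys Rc i = true) ∧
      (∀ i, 0 < i → i < N → ∃ j, j < i ∧ ∃ w ∈ Tw, tabW tab w j = i) := by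
  have h' : ∀ i, i < N → chkPt tab inv N ys Rc i = true ∧
      (bif Nat.beq i 0 then true else chkReachPt tab Tw i (pr i)) = true := by
    intro i hi
    have h1 := h i hi
    rw [blt_true_of_lt hi] at h1
    simp only [cond_true, Bool.and_eq_true] at h1
    exact h1
  refine ⟨fun i hi => (h' i hi).1, ?_⟩
  intro i h0 hi
  have h1 := (h' i hi).2
  rw [beq_false (by omega)] at h1
  exact chkReachPt_spec h1

/-- From word lists to elements. -/
theorem reach_of_words {α : Type} {sg : α → Bool → ℕ} [DecidableEq α] {Gl : List (FreeGroup α)} {tab : ℕ → ℕ → ℕ} {N : ℕ}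
    {Tw : List (List ℕ)} (hTw : Tw = Gl.map (relW sg))
    (h : ∀ i, 0 < i → i < N → ∃ j, j < i ∧ ∃ w ∈ Tw, tabW tab w j = i) :
    ∀ i, 0 < i → i < N → ∃ j, j < i ∧ ∃ s ∈ Gl, tabW tab (relW sg s) j = i := by
  intro i h0 hi
  obtain ⟨j, hj, w, hw, e⟩ := h i h0 hi
  rw [hTw] at hw
  obtain ⟨s, hs, rfl⟩ := List.mem_map.mp hw
  exact ⟨j, hj, s, hs, e⟩

/-- The facts of a block, from its check. -/
theorem block_facts {α : Type} {sg : α → Bool → ℕ} [DecidableEq α] {Sl : List (FreeGroup α)} {tab : ℕ → ℕ → ℕ}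
    {Sw : List (List ℕ)} (hSw : Sw = Sl.map (relW sg)) {pr : ℕ → ℕ} {lo hi d : ℕ} (hd : hi ≤ 2 ^ d)
    (h : allBits (fun i => bif (and (Nat.ble lo i) (Nat.blt i hi)) then chkBlockPt tab Sw lo hi i (pr i) else true) d 0
      = true) :
    (∀ s ∈ Sl, ∀ i, lo ≤ i → i < hi → lo ≤ tabW tab (relW sg s) i ∧ tabW tab (relW sg s) i < hi) ∧
      (∀ i, lo < i → i < hi → ∃ j, lo ≤ j ∧ j < i ∧ ∃ s ∈ Sl, tabW tab (relW sg s) j = i) := by
  have key : ∀ i, lo ≤ i → i < hi → chkBlockPt tab Sw lo hi i (pr i) = true := by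
    intro i h1 h2
    have h3 := allBits_spec h i (Nat.zero_le i) (by omega)
    have h4 : Nat.ble lo i = true := Nat.ble_eq_true_of_le h1
    rw [h4, blt_true_of_lt h2] at h3
    exact h3
  constructor
  · intro s hs i h1 h2
    refine (chkBlockPt_spec (key i h1 h2)).1 _ ?_
    rw [hSw]
    exact List.mem_map_of_mem hs
  · intro i h1 h2
    obtain ⟨j, hj1, hj2, w, hw, e⟩ := (chkBlockPt_spec (key i (by omega) h2)).2 h1
    rw [hSw] at hw
    obtain ⟨s, hs, rfl⟩ := List.mem_map.mp hw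
    exact ⟨j, hj1, hj2, s, hs, e⟩

end Cfsg.Agent.Lib.ToddCox
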