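/-
The order of a group from coset enumerations and stabilizer chains (helper16).
-/
import Cfsg.Agent.Lib.ToddCox.Rep

set_option autoImplicit false
set_option linter.unusedSectionVars false

namespace Cfsg.Agent.Lib.ToddCox

section general

variable {Γ : Type*} [Group Γ]

/-- The main bound for a group with letters. -/
theorem group_index_le (gen : ℕ → Γ) (inv : ℕ → ℕ) (H : Subgroup Γ) (hgeninv : ∀ y, gen (inv y) = (gen y)⁻¹)
    (Eo : ℕ → ℕ) (W : ℕ → List ℕ) (isH : ℕ → Bool)
    (hinvlt : ∀ y, y < 64 → inv y < 64) (hEo : ∀ r, Eo r < 18014398509481984)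
    (hid : gen 63 = 1)
    (Rb : List (List ℕ)) (hRb : ∀ w ∈ Rb, wordVal gen w = 1)
    (nW : ℕ) (hW0 : ∀ j, nW ≤ j → W j = [])
    (sp : ℕ → ℕ) (hW1 : ∀ j, j < nW → wordsOK W (relR Rb inv) inv sp j = true)
    (hH : ∀ y, isH y = true → gen y ∈ H)
    {nDef nEv : ℕ} (hdef : ∀ c, c < nDef → chkDef Eo inv c = true)
    (hchk : Covered Eo inv W isH nDef nEv)
    {N : ℕ} (hN : 0 < N) (cF : ℕ → ℕ) (hc0 : cF 0 = 0) (hclt : ∀ i, cF i < 16777216) (ys : List ℕ)
    (hgen : Subgroup.closure (gen '' {y | y ∈ ys}) = ⊤)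
    (hlinks : LinksOK Eo cF (2 * nEv) N ys 0 N) : 0 < H.index ∧ H.index ≤ N := by
  let act : ℕ → Γ ⧸ H → Γ ⧸ H := fun y q => gen y • q
  have hR : ∀ r p, actW act (relR Rb inv r) p = p := by
    intro r p
    have : wordVal gen (relR Rb inv r) = 1 := by
      unfold relR
      by_cases hr : r < Rb.length
      · have hb : Nat.blt r Rb.length = true := Nat.ble_eq_true_of_le hr
        rw [hb]
        show wordVal gen (Rb.getD r []) = 1
        rw [List.getD_eq_getElem _ _ hr]
        exact hRb _ (List.getElem_mem hr)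
      · rw [blt_false_of_le (by omega)]
        show wordVal gen [r - Rb.length, inv (r - Rb.length)] = 1
        simp [wordVal, hgeninv]
    have h2 := actW_gen H gen (relR Rb inv r) p
    show actW (fun y (q : Γ ⧸ H) => gen y • q) _ p = p
    rw [h2, this, one_smul]
  have hinv1 : ∀ y p, act (inv y) (act y p) = p := by
    intro y p
    show gen (inv y) • gen y • p = p
    rw [hgeninv, inv_smul_smul]
  have hinv2 : ∀ y p, act y (act (inv y) p) = p := by
    intro y p
    show gen y • gen (inv y) • p = p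
    rw [hgeninv, smul_inv_smul]
  have hid' : ∀ p, act 63 p = p := by
    intro p
    show gen 63 • p = p
    rw [hid, one_smul]
  have hW : ∀ w, ValidHead (fun y (q : Γ ⧸ H) => gen y • q) (W w) := by
    intro j
    by_cases hj : j < nW
    · have := hW1 j hj
      unfold wordsOK at this
      exact valid_of_spec act inv hinv1 hinv2 hid' (relR Rb inv) hR (of_decide_eq_true this)
    · rw [hW0 j (by omega)]
      trivial
  exact index_le_cert H gen Eo inv W isH hinvlt hEo hgeninv hW hH hdef hchk hN cF hc0 hclt ys hgen hlinks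

end general

section chain

variable {G : Type*} [Group G] (gen : ℕ → G)

/-- The subgroup generated by some letters. -/
def letSub (Js : List ℕ) : Subgroup G := Subgroup.closure (gen '' {y | y ∈ Js})

open Classical in
/-- A letter as an element of a subgroup, if it lies there. -/
noncomputable def genIn (K : Subgroup G) (y : ℕ) : K := if h : gen y ∈ K then ⟨gen y, h⟩ else 1

variable {gen}

theorem genIn_coe {K : Subgroup G} {y : ℕ} (h : gen y ∈ K) : ((genIn gen K y : K) : G) = gen y := by
  unfold genIn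
  rw [dif_pos h]

theorem genIn_inv {inv : ℕ → ℕ} (hg : ∀ y, gen (inv y) = (gen y)⁻¹) (K : Subgroup G) (y : ℕ) :
    genIn gen K (inv y) = (genIn gen K y)⁻¹ := by
  by_cases h : gen y ∈ K
  · have h1 : gen (inv y) ∈ K := by
      rw [hg]
      exact K.inv_mem h
    apply Subtype.ext
    rw [genIn_coe h1, Subgroup.coe_inv, genIn_coe h, hg]
  · have h1 : gen (inv y) ∉ K := by
      rw [hg]
      exact fun h2 => h (by simpa using K.inv_mem h2)
    unfold genIn
    rw [dif_neg h, dif_neg h1, inv_one]

theorem wordVal_genIn (K : Subgroup G) {w : List ℕ} (hw : ∀ a ∈ w, gen a ∈ K) :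
    ((wordVal (genIn gen K) w : K) : G) = wordVal gen w := by
  induction w with
  | nil => simp [wordVal]
  | cons a w ih =>
    rw [wordVal_cons, wordVal_cons, Subgroup.coe_mul, ih (fun b hb => hw b (List.mem_cons_of_mem a hb)),
      genIn_coe (hw a List.mem_cons_self)]

theorem mem_letSub {Js : List ℕ} {y : ℕ} (h : y ∈ Js) : gen y ∈ letSub gen Js :=
  Subgroup.subset_closure ⟨y, h, rfl⟩

theorem mem_letSub_inv {inv : ℕ → ℕ} (hg : ∀ y, gen (inv y) = (gen y)⁻¹) {Js : List ℕ} {a : ℕ}
    (h : a ∈ Js ∨ ∃ b ∈ Js, inv b = a) : gen a ∈ letSub gen Js := by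
  rcases h with h | ⟨b, hb, rfl⟩
  · exact mem_letSub h
  · rw [hg]
    exact Subgroup.inv_mem _ (mem_letSub hb)

theorem letSub_le {Js Js' : List ℕ} (h : ∀ y ∈ Js', gen y ∈ letSub gen Js) : letSub gen Js' ≤ letSub gen Js := by
  unfold letSub
  rw [Subgroup.closure_le]
  rintro _ ⟨y, hy, rfl⟩
  exact h y hy

/-- The step of a chain of subgroups generated by letters. -/
theorem sub_index_le (inv : ℕ → ℕ) (hgeninv : ∀ y, gen (inv y) = (gen y)⁻¹) (Js Js' : List ℕ)
    (hK' : ∀ y ∈ Js', gen y ∈ letSub gen Js)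
    (Eo : ℕ → ℕ) (W : ℕ → List ℕ) (isH : ℕ → Bool)
    (hinvlt : ∀ y, y < 64 → inv y < 64) (hEo : ∀ r, Eo r < 18014398509481984)
    (hid : gen 63 = 1)
    (Rb : List (List ℕ)) (hRb : ∀ w ∈ Rb, wordVal gen w = 1) (hRbK : ∀ w ∈ Rb, ∀ a ∈ w, gen a ∈ letSub gen Js)
    (nW : ℕ) (hW0 : ∀ j, nW ≤ j → W j = [])
    (sp : ℕ → ℕ) (hW1 : ∀ j, j < nW → wordsOK W (relR Rb inv) inv sp j = true)
    (hH : ∀ y, isH y = true → y ∈ Js')
    {nDef nEv : ℕ} (hdef : ∀ c, c < nDef → chkDef Eo inv c = true)
    (hchk : Covered Eo inv W isH nDef nEv)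
    {N : ℕ} (hN : 0 < N) (cF : ℕ → ℕ) (hc0 : cF 0 = 0) (hclt : ∀ i, cF i < 16777216) (ys : List ℕ)
    (hys : ∀ y ∈ Js, y ∈ ys)
    (hlinks : LinksOK Eo cF (2 * nEv) N ys 0 N) :
    0 < ((letSub gen Js').subgroupOf (letSub gen Js)).index ∧
      ((letSub gen Js').subgroupOf (letSub gen Js)).index ≤ N := by
  refine group_index_le (genIn gen (letSub gen Js)) inv _ (genIn_inv hgeninv _) Eo W isH hinvlt hEo ?_ Rb ?_ nW hW0
    sp hW1 ?_ hdef hchk hN cF hc0 hclt ys ?_ hlinks
  · unfold genIn
    by_cases h : gen 63 ∈ letSub gen Js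
    · rw [dif_pos h]
      exact Subtype.ext hid
    · rw [dif_neg h]
  · intro w hw
    apply Subtype.ext
    rw [wordVal_genIn _ (hRbK w hw), hRb w hw]
    rfl
  · intro y hy
    have h1 := hH y hy
    rw [Subgroup.mem_subgroupOf, genIn_coe (hK' y h1)]
    exact mem_letSub h1
  · have h0 := Subgroup.closure_closure_coe_preimage (k := gen '' {y | y ∈ Js})
    refine top_le_iff.mp (le_trans (le_of_eq h0.symm) ?_)
    apply Subgroup.closure_mono
    rintro ⟨x, hx⟩ ⟨y, hy, e⟩
    refine ⟨y, hys y hy, ?_⟩
    apply Subtype.ext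
    have h1 : gen y ∈ letSub gen Js := mem_letSub hy
    rw [genIn_coe h1]
    exact e

/-- One link of a chain of subgroups. -/
theorem card_le_of_chain {K K' : Subgroup G} (hle : K' ≤ K) {N c : ℕ}
    (hi : 0 < (K'.subgroupOf K).index ∧ (K'.subgroupOf K).index ≤ N) (hc : 0 < Nat.card K' ∧ Nat.card K' ≤ c) :
    0 < Nat.card K ∧ Nat.card K ≤ N * c := by
  have h1 := Subgroup.card_mul_index (K'.subgroupOf K)
  have h2 : Nat.card (K'.subgroupOf K) = Nat.card K' :=
    Nat.card_congr (Subgroup.subgroupOfEquivOfLe hle).toEquiv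
  rw [h2] at h1
  constructor
  · rw [← h1]
    exact Nat.mul_pos hc.1 hi.1
  · rw [← h1, mul_comm]
    exact Nat.mul_le_mul hi.2 hc.2

theorem card_letSub_nil : 0 < Nat.card (letSub gen []) ∧ Nat.card (letSub gen []) ≤ 1 := by
  have : letSub gen [] = ⊥ := by
    unfold letSub
    simp
  rw [this]
  simp

end chain

section lower

variable {N : ℕ} {tab : ℕ → ℕ → ℕ} (el : List ℕ → Equiv.Perm (Fin N))

/-- A subgroup of a chain, generated by the words beyond a position. -/
def sgsG (L : List (List ℕ)) (c : ℕ) : Subgroup (Equiv.Perm (Fin N)) :=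
  Subgroup.closure (el '' {w | w ∈ L.drop c})

theorem sgsG_le (L : List (List ℕ)) {c c' : ℕ} (h : c ≤ c') : sgsG el L c' ≤ sgsG el L c := by
  unfold sgsG
  apply Subgroup.closure_mono
  apply Set.image_mono
  intro w hw
  have hw' : w ∈ L.drop c' := hw
  show w ∈ L.drop c
  obtain ⟨d, rfl⟩ := Nat.exists_eq_add_of_le h
  rw [← List.drop_drop] at hw'
  exact List.mem_of_mem_drop hw'

/-- The mask of 22 bits. -/
def mk22 : ℕ := 4194303

/-- The point of a record of an orbit. -/
def orbPt (r : ℕ) : ℕ := Nat.land r 4194303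
/-- The parent of a record of an orbit. -/
def orbPar (r : ℕ) : ℕ := Nat.land (Nat.shiftRight r 22) 4194303
/-- The word of a record of an orbit. -/
def orbWord (r : ℕ) : ℕ := Nat.land (Nat.shiftRight r 44) 1023
/-- The depth of a record of an orbit. -/
def orbDepth (r : ℕ) : ℕ := Nat.shiftRight r 54

/-- The check of a position of a sorted list of orbit points. -/
noncomputable def chkOrbPos (tab : ℕ → ℕ → ℕ) (L : List (List ℕ)) (c b o N : ℕ) (rec : ℕ → ℕ) (j : ℕ) : Bool :=
  and (Nat.blt (orbPt (rec j)) N)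
    (and (bif Nat.blt (Nat.succ j) o then Nat.blt (orbPt (rec j)) (orbPt (rec (Nat.succ j))) else true)
      (bif Nat.beq (orbPt (rec j)) b then true else
        and (Nat.blt (orbPar (rec j)) o)
          (and (Nat.ble c (orbWord (rec j)))
            (and (Nat.blt (orbWord (rec j)) L.length)
              (and (Nat.blt (orbDepth (rec (orbPar (rec j)))) (orbDepth (rec j)))
                (Nat.beq (tabW tab (L.getD (orbWord (rec j)) []) (orbPt (rec (orbPar (rec j))))) (orbPt (rec j))))))))

variable {el}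

theorem orb_reach {L : List (List ℕ)} {c b o : ℕ} {rec : ℕ → ℕ} (hb : b < N)
    (hel : ∀ w ∈ L, ∀ i : Fin N, ((el w i : Fin N) : ℕ) = tabW tab w i)
    (hchk : ∀ j, j < o → chkOrbPos tab L c b o N rec j = true) :
    ∀ (d j : ℕ), orbDepth (rec j) = d → j < o → ∃ (g : Equiv.Perm (Fin N)) (hj : orbPt (rec j) < N),
      g ∈ sgsG el L c ∧ g ⟨b, hb⟩ = ⟨orbPt (rec j), hj⟩ := by
  intro d
  induction d using Nat.strong_induction_on with
  | _ d ih =>
    intro j hd hj
    have h := hchk j hj
    unfold chkOrbPos at h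
    rw [Bool.and_eq_true, Bool.and_eq_true] at h
    obtain ⟨h1, -, h3⟩ := h
    have hjN := blt_true h1
    by_cases hr : orbPt (rec j) = b
    · refine ⟨1, hjN, Subgroup.one_mem _, ?_⟩
      simp only [Equiv.Perm.coe_one, id]
      exact Fin.ext hr.symm
    · rw [beq_false hr] at h3
      simp only [cond_false, Bool.and_eq_true] at h3
      obtain ⟨h4, h5, h6, h7, h8⟩ := h3
      have h9 : orbDepth (rec (orbPar (rec j))) < d := by
        rw [← hd]
        exact blt_true h7
      obtain ⟨g, hp, hg, e⟩ := ih _ h9 _ rfl (blt_true h4)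
      have hk := blt_true h6
      have hc := Nat.le_of_ble_eq_true h5
      have hw : L.getD (orbWord (rec j)) [] ∈ L := by
        rw [List.getD_eq_getElem _ _ hk]
        exact List.getElem_mem hk
      have hw2 : L.getD (orbWord (rec j)) [] ∈ L.drop c := by
        rw [List.getD_eq_getElem _ _ hk]
        obtain ⟨d', hd'⟩ := Nat.exists_eq_add_of_le hc
        have : L[orbWord (rec j)] = (L.drop c)[d']'(by
            rw [List.length_drop]
            omega) := by
          simp [hd']
        rw [this]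
        exact List.getElem_mem _
      refine ⟨el (L.getD (orbWord (rec j)) []) * g, hjN, ?_, ?_⟩
      · exact Subgroup.mul_mem _ (Subgroup.subset_closure ⟨_, hw2, rfl⟩) hg
      · rw [Equiv.Perm.mul_apply, e]
        apply Fin.ext
        rw [hel _ hw]
        exact Nat.eq_of_beq_eq_true h8

/-- One level of a stabilizer chain. -/
theorem level_bound {L : List (List ℕ)} {c c' b o : ℕ} {rec : ℕ → ℕ} (hb : b < N) (hcc : c ≤ c')
    (hel : ∀ w ∈ L, ∀ i : Fin N, ((el w i : Fin N) : ℕ) = tabW tab w i)
    (hfix : ∀ w ∈ L.drop c', tabW tab w b = b)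
    (hchk : ∀ j, j < o → chkOrbPos tab L c b o N rec j = true) :
    o * Nat.card (sgsG el L c') ≤ Nat.card (sgsG el L c) := by
  classical
  set S := sgsG el L c with hS
  set S' := sgsG el L c' with hS'
  have hle : S' ≤ S := sgsG_le el L hcc
  let x : Fin N := ⟨b, hb⟩
  -- points
  have hpts : ∀ j, j < o → ∃ (g : Equiv.Perm (Fin N)) (hj : orbPt (rec j) < N), g ∈ S ∧ g x = ⟨orbPt (rec j), hj⟩ :=
    fun j hj => orb_reach hb hel hchk _ j rfl hj
  have hmono : ∀ i j, i < j → j < o → orbPt (rec i) < orbPt (rec j) := by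
    intro i j hij hj
    induction j, hij using Nat.le_induction with
    | base =>
      have h := hchk i (by omega)
      unfold chkOrbPos at h
      rw [Bool.and_eq_true, Bool.and_eq_true] at h
      have h2 := h.2.1
      rw [blt_true_of_lt hj] at h2
      exact blt_true h2
    | succ j hij ih =>
      have h := hchk j (by omega)
      unfold chkOrbPos at h
      rw [Bool.and_eq_true, Bool.and_eq_true] at h
      have h2 := h.2.1
      rw [blt_true_of_lt hj] at h2
      have h3 := blt_true h2
      have h4 := ih (by omega)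
      exact lt_trans h4 h3
  -- the orbit has at least o points
  let A : Set (Fin N) := MulAction.orbit S x
  have hA : o ≤ A.ncard := by
    let f : Fin o → Fin N := fun j => if h : orbPt (rec j) < N then ⟨orbPt (rec j), h⟩ else x
    have hf : Function.Injective f := by
      intro i j hij
      obtain ⟨_, hi', _, _⟩ := hpts i i.2
      obtain ⟨_, hj', _, _⟩ := hpts j j.2
      simp only [f, dif_pos hi', dif_pos hj', Fin.mk.injEq] at hij
      rcases lt_trichotomy (i : ℕ) j with h | h | h
      · have := hmono _ _ h j.2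
        omega
      · exact Fin.ext h
      · have := hmono _ _ h i.2
        omega
    have h1 : Set.range f ⊆ A := by
      rintro _ ⟨j, rfl⟩
      obtain ⟨g, hj', hg, e⟩ := hpts j j.2
      refine ⟨⟨g, hg⟩, ?_⟩
      simp only [f, dif_pos hj']
      exact e
    have h2 : (Set.range f).ncard = o := by
      rw [← Set.image_univ, Set.ncard_image_of_injective _ hf, Set.ncard_univ]
      simp
    have h3 := Set.ncard_le_ncard h1 (Set.toFinite A)
    omega
  -- orbit stabilizer
  have h4 := Subgroup.card_mul_index (MulAction.stabilizer S x)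
  rw [MulAction.index_stabilizer] at h4
  have h5 : Nat.card S' ≤ Nat.card (MulAction.stabilizer S x) := by
    let F : S' → MulAction.stabilizer S x := fun s => ⟨⟨s, hle s.2⟩, by
      rw [MulAction.mem_stabilizer_iff]
      show (s : Equiv.Perm (Fin N)) x = x
      have hs := s.2
      have key : ∀ g ∈ S', g x = x := by
        intro g hg
        induction hg using Subgroup.closure_induction with
        | mem a ha =>
          obtain ⟨w, hw, rfl⟩ := ha
          have hw' : w ∈ L.drop c' := hw
          apply Fin.ext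
          rw [hel w (List.mem_of_mem_drop hw')]
          exact hfix w hw'
        | one => simp
        | mul a b _ _ iha ihb =>
          rw [Equiv.Perm.mul_apply, ihb, iha]
        | inv a _ iha =>
          rw [Equiv.Perm.inv_eq_iff_eq, iha]
      exact key _ hs⟩
    have hF : Function.Injective F := by
      intro a b h
      have h2 := congrArg (fun y : MulAction.stabilizer S x => ((y : S) : Equiv.Perm (Fin N))) h
      exact Subtype.ext h2
    exact Nat.card_le_card_of_injective F hF
  calc o * Nat.card S' ≤ A.ncard * Nat.card (MulAction.stabilizer S x) := Nat.mul_le_mul hA h5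
    _ = Nat.card S := by
      rw [mul_comm]
      exact h4

/-- The end of a chain. -/
theorem sgsG_pos (L : List (List ℕ)) (c : ℕ) : 0 < Nat.card (sgsG el L c) := Nat.card_pos

end lower

end Cfsg.Agent.Lib.ToddCox
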