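/-
Simplicity of a group with a faithful transitive action (helper16): an orbit of a normal subgroup is a block of the
whole group; it is a union of orbits of a point stabilizer, so its size is a subset sum; a block of full size gives a
prime power dividing the order of the normal subgroup, so the normal subgroup contains all elements of that prime order.
-/
import Cfsg.Agent.Lib.ToddCox.Order

set_option autoImplicit false
set_option linter.unusedSectionVars false

namespace Cfsg.Agent.Lib.ToddCox

/-- The subset sums of a list. -/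
def ssums : List ℕ → List ℕ
  | [] => [0]
  | s :: t => ssums t ++ (ssums t).map (· + s)

/-- A predicate is constant on the consecutive intervals with given sizes. -/
def AllOrNone (P : ℕ → Prop) : List ℕ → ℕ → Prop
  | [], _ => True
  | s :: t, lo => (∀ i j, lo ≤ i → i < lo + s → lo ≤ j → j < lo + s → (P i → P j)) ∧ AllOrNone P t (lo + s)

theorem count_in_ssums (P : ℕ → Prop) [DecidablePred P] (l : List ℕ) (lo : ℕ) (h : AllOrNone P l lo) :
    ((Finset.Ico lo (lo + l.sum)).filter P).card ∈ ssums l := by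
  induction l generalizing lo with
  | nil => simp [ssums]
  | cons s t ih =>
    obtain ⟨h1, h2⟩ := h
    have ih' := ih (lo + s) h2
    have hsplit : Finset.Ico lo (lo + (s :: t).sum) = Finset.Ico lo (lo + s) ∪ Finset.Ico (lo + s) (lo + s + t.sum) := by
      rw [Finset.Ico_union_Ico_eq_Ico (by omega) (by omega)]
      congr 1
      simp only [List.sum_cons]
      ring
    rw [hsplit, Finset.filter_union, Finset.card_union_of_disjoint]
    · simp only [ssums, List.mem_append, List.mem_map]
      by_cases hc : ∃ i, lo ≤ i ∧ i < lo + s ∧ P i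
      · obtain ⟨i, hi1, hi2, hi3⟩ := hc
        have : (Finset.Ico lo (lo + s)).filter P = Finset.Ico lo (lo + s) := by
          apply Finset.filter_true_of_mem
          intro j hj
          rw [Finset.mem_Ico] at hj
          exact h1 i j hi1 hi2 hj.1 hj.2 hi3
        rw [this, Nat.card_Ico]
        right
        exact ⟨_, ih', by omega⟩
      · have : (Finset.Ico lo (lo + s)).filter P = ∅ := by
          apply Finset.filter_false_of_mem
          intro j hj hj2
          rw [Finset.mem_Ico] at hj
          exact hc ⟨j, hj.1, hj.2, hj2⟩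
        rw [this, Finset.card_empty, zero_add]
        left
        exact ih'
    · apply Finset.disjoint_filter_filter
      rw [Finset.disjoint_left]
      intro a ha hb
      rw [Finset.mem_Ico] at ha hb
      omega

/-- Orbits of a subgroup on consecutive intervals of points. -/
def BlocksConn {G : Type*} [Group G] {n : ℕ} (ρ : G →* Equiv.Perm (Fin n)) (H : Subgroup G) : List ℕ → ℕ → Prop
  | [], _ => True
  | s :: t, lo =>
    (∀ i : Fin n, lo < (i : ℕ) → (i : ℕ) < lo + s → ∃ j : Fin n, lo ≤ (j : ℕ) ∧ (j : ℕ) < i ∧ ∃ h ∈ H, ρ h j = i) ∧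
      BlocksConn ρ H t (lo + s)

section simple

variable {G : Type*} [Group G] {n : ℕ} (ρ : G →* Equiv.Perm (Fin n))

theorem allOrNone_of_conn {H : Subgroup G} {P : ℕ → Prop}
    (hP : ∀ h ∈ H, ∀ i : Fin n, P i → P (ρ h i)) (l : List ℕ) (lo : ℕ) (hl : lo + l.sum ≤ n)
    (h : BlocksConn ρ H l lo) : AllOrNone P l lo := by
  induction l generalizing lo with
  | nil => trivial
  | cons s t ih =>
    obtain ⟨h1, h2⟩ := h
    simp only [List.sum_cons] at hl
    refine ⟨?_, ih (lo + s) (by omega) h2⟩
    -- every point is connected to the first one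
    have key : ∀ i, lo ≤ i → i < lo + s → (P lo ↔ P i) := by
      intro i
      induction i using Nat.strong_induction_on with
      | _ i ihi =>
        intro hi1 hi2
        by_cases hc : i = lo
        · rw [hc]
        · have hin : i < n := by omega
          obtain ⟨j, hj1, hj2, g, hg, e⟩ := h1 ⟨i, hin⟩ (show lo < i by omega) hi2
          have hj3 : (j : ℕ) < i := hj2
          have ih2 := ihi j hj3 hj1 (by omega)
          rw [ih2]
          constructor
          · intro hp
            have := hP g hg j hp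
            rw [e] at this
            exact this
          · intro hp
            have h3 : (ρ g⁻¹ ⟨i, hin⟩ : Fin n) = j := by
              rw [map_inv, Equiv.Perm.inv_eq_iff_eq]
              exact e.symm
            have := hP g⁻¹ (H.inv_mem hg) ⟨i, hin⟩ hp
            rw [h3] at this
            exact this
    intro i j hi1 hi2 hj1 hj2 hp
    exact (key j hj1 hj2).mp ((key i hi1 hi2).mpr hp)

/-- Simplicity from a faithful transitive action. -/
theorem simple_of_rep [Finite G] [Nontrivial G] (hinj : Function.Injective ρ) (hn : 0 < n)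
    (H : Subgroup G) (hfix : ∀ h ∈ H, ρ h ⟨0, hn⟩ = ⟨0, hn⟩) (htrans : ∀ i : Fin n, ∃ g, ρ g ⟨0, hn⟩ = i)
    (l : List ℕ) (hl : 1 + l.sum = n) (hconn : BlocksConn ρ H l 1)
    (hsum : ∀ d ∈ ssums l, (d + 1) ∣ n → d = 0 ∨ d + 1 = n)
    (x : G) (p a : ℕ) (hp : p.Prime) (hxp : x ^ p = 1) (hpa : p ^ a ∣ n) (hpa' : ¬ p ^ (a + 1) ∣ Nat.card G)
    (hcl : Subgroup.normalClosure {x} = ⊤) : IsSimpleGroup G := by
  classical
  let inst : MulAction G (Fin n) := MulAction.compHom (Fin n) ρ
  have hsm : ∀ (g : G) (i : Fin n), g • i = ρ g i := fun _ _ => rfl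
  have hpre : MulAction.IsPretransitive G (Fin n) := by
    refine ⟨fun i j => ?_⟩
    obtain ⟨g1, h1⟩ := htrans i
    obtain ⟨g2, h2⟩ := htrans j
    refine ⟨g2 * g1⁻¹, ?_⟩
    have h3 : (ρ g1)⁻¹ ((ρ g1) ⟨0, hn⟩) = ⟨0, hn⟩ := by
      rw [Equiv.Perm.inv_eq_iff_eq]
    rw [mul_smul, hsm g1⁻¹, hsm g2, ← h1, map_inv, h3, h2]
  let o : Fin n := ⟨0, hn⟩
  refine { eq_bot_or_eq_top_of_normal := ?_ }
  intro N hN
  by_cases hbot : N = ⊥
  · exact Or.inl hbot
  right
  let B : Set (Fin n) := MulAction.orbit N o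
  have hblock : MulAction.IsBlock G B := MulAction.IsBlock.orbit_of_normal o
  have ho : o ∈ B := MulAction.mem_orbit_self o
  have hdvd : B.ncard ∣ n := by
    have := hblock.ncard_dvd_card ⟨o, ho⟩
    simpa using this
  -- H preserves B
  have hBm : ∀ i : Fin n, i ∈ B ↔ ∃ ν ∈ N, ρ ν o = i := by
    intro i
    constructor
    · rintro ⟨ν, rfl⟩
      exact ⟨ν, ν.2, rfl⟩
    · rintro ⟨ν, hν, rfl⟩
      exact ⟨⟨ν, hν⟩, rfl⟩
  have hHB : ∀ h ∈ H, ∀ i : Fin n, i ∈ B → ρ h i ∈ B := by
    intro h hh i hi
    obtain ⟨ν, hν, rfl⟩ := (hBm i).mp hi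
    refine (hBm _).mpr ⟨h * ν * h⁻¹, hN.conj_mem ν hν h, ?_⟩
    have h2 : ρ h⁻¹ o = o := hfix _ (H.inv_mem hh)
    rw [map_mul, map_mul, Equiv.Perm.mul_apply, Equiv.Perm.mul_apply, h2]
  let P : ℕ → Prop := fun i => ∃ hi : i < n, (⟨i, hi⟩ : Fin n) ∈ B
  have hAO : AllOrNone P l 1 := by
    refine allOrNone_of_conn ρ (H := H) ?_ l 1 (by omega) hconn
    rintro h hh i ⟨_, hi⟩
    exact ⟨(ρ h i).2, hHB h hh i hi⟩
  have hcount := count_in_ssums P l 1 hAO
  set d := ((Finset.Ico 1 (1 + l.sum)).filter P).card with hd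
  have hBcard : B.ncard = d + 1 := by
    have h1 : B = Fin.val ⁻¹' {i | P i} := by
      ext i
      constructor
      · intro hi
        exact ⟨i.2, hi⟩
      · rintro ⟨_, hi⟩
        exact hi
    have h2 : (Fin.val '' B) = ↑((Finset.range n).filter P) := by
      ext i
      constructor
      · rintro ⟨j, hj, rfl⟩
        simp only [Finset.coe_filter, Finset.mem_range, Set.mem_ofPred_eq]
        exact ⟨j.2, j.2, hj⟩
      · intro hi
        simp only [Finset.coe_filter, Finset.mem_range, Set.mem_ofPred_eq] at hi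
        obtain ⟨h3, h4, h5⟩ := hi
        exact ⟨⟨i, h3⟩, h5, rfl⟩
    have h3 := Set.ncard_image_of_injective B (Fin.val_injective (n := n))
    rw [← h3, h2, Set.ncard_coe_finset]
    have h4 : Finset.range n = insert 0 (Finset.Ico 1 (1 + l.sum)) := by
      ext i
      simp only [Finset.mem_range, Finset.mem_insert, Finset.mem_Ico]
      omega
    rw [h4, Finset.filter_insert, if_pos (⟨hn, ho⟩ : P 0), Finset.card_insert_of_notMem (by
      simp)]
  rcases hsum d hcount (by rw [← hBcard]; exact hdvd) with h0 | h0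
  · -- N acts trivially
    exfalso
    apply hbot
    rw [eq_bot_iff]
    intro ν hν
    have hB1 : B.ncard = 1 := by omega
    obtain ⟨c, hc⟩ := Set.ncard_eq_one.mp hB1
    have hfixN : ∀ μ ∈ N, ρ μ o = o := by
      intro μ hμ
      have h1 : ρ μ o ∈ B := (hBm _).mpr ⟨μ, hμ, rfl⟩
      rw [hc] at h1 ho
      rw [Set.mem_singleton_iff] at h1 ho
      rw [h1, ho]
    have : ρ ν = 1 := by
      ext i
      obtain ⟨g, hg⟩ := htrans i
      have h2 := hfixN (g⁻¹ * ν * g) (by
        have := hN.conj_mem ν hν g⁻¹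
        rwa [inv_inv] at this)
      simp only [map_mul, map_inv, Equiv.Perm.mul_apply] at h2
      rw [Equiv.Perm.inv_eq_iff_eq] at h2
      simp only [Equiv.Perm.coe_one, id]
      congr 1
      rw [← hg]
      exact h2
    rw [Subgroup.mem_bot]
    apply hinj
    rw [this, map_one]
  · -- N is transitive
    have hBn : B.ncard = n := by omega
    have h1 := Subgroup.card_mul_index (MulAction.stabilizer N o)
    rw [MulAction.index_stabilizer] at h1
    have h2 : n ∣ Nat.card N := by
      refine Dvd.intro_left (Nat.card (MulAction.stabilizer N o)) ?_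
      rw [← h1]
      exact congrArg _ hBn.symm
    have h3 : p ^ a ∣ Nat.card N := hpa.trans h2
    have h4 := Subgroup.card_mul_index N
    have h5 : ¬ p ∣ N.index := by
      intro h6
      apply hpa'
      rw [← h4, pow_succ]
      exact Nat.mul_dvd_mul h3 h6
    have hfinQ : Finite (G ⧸ N) := inferInstance
    have h6 : (x : G ⧸ N) ^ p = 1 := by
      rw [← QuotientGroup.mk_pow, hxp]
      rfl
    have h7 : orderOf (x : G ⧸ N) ∣ p := orderOf_dvd_of_pow_eq_one h6
    have h8 : orderOf (x : G ⧸ N) ∣ N.index := by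
      have := orderOf_dvd_natCard (x : G ⧸ N)
      exact this
    have h9 : orderOf (x : G ⧸ N) = 1 := by
      rcases (Nat.dvd_prime hp).mp h7 with h | h
      · exact h
      · rw [h] at h8
        exact absurd h8 h5
    have h10 : (x : G ⧸ N) = 1 := orderOf_eq_one_iff.mp h9
    have h11 : x ∈ N := (QuotientGroup.eq_one_iff x).mp h10
    rw [eq_top_iff, ← hcl]
    exact Subgroup.normalClosure_le_normal (by simpa using h11)

end simple

/-- The normal closure of an element from a collapse. -/
theorem normalClosure_top_of_cert {G : Type*} [Group G] (gen : ℕ → G) (x : G) (inv : ℕ → ℕ)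
    (hgeninv : ∀ y, gen (inv y) = (gen y)⁻¹)
    (Eo : ℕ → ℕ) (W : ℕ → List ℕ) (isH : ℕ → Bool)
    (hinvlt : ∀ y, y < 64 → inv y < 64) (hEo : ∀ r, Eo r < 18014398509481984)
    (hid : gen 63 = 1)
    (Rb : List (List ℕ)) (hRb : ∀ w ∈ Rb, wordVal gen w ∈ Subgroup.normalClosure {x})
    (nW : ℕ) (hW0 : ∀ j, nW ≤ j → W j = [])
    (sp : ℕ → ℕ) (hW1 : ∀ j, j < nW → wordsOK W (relR Rb inv) inv sp j = true)
    (hH : ∀ y, isH y = false)
    {nDef nEv : ℕ} (hdef : ∀ c, c < nDef → chkDef Eo inv c = true)
    (hchk : Covered Eo inv W isH nDef nEv)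
    (cF : ℕ → ℕ) (hc0 : cF 0 = 0) (hclt : ∀ i, cF i < 16777216) (ys : List ℕ)
    (hgen : Subgroup.closure (gen '' {y | y ∈ ys}) = ⊤)
    (hlinks : LinksOK Eo cF (2 * nEv) 1 ys 0 1) : Subgroup.normalClosure {x} = ⊤ := by
  set K := Subgroup.normalClosure {x} with hK
  let π : G →* G ⧸ K := QuotientGroup.mk' K
  have hπ : ∀ w, wordVal (fun y => π (gen y)) w = π (wordVal gen w) := by
    intro w
    simp only [wordVal, map_list_prod, List.map_map]
    rfl
  have h1 := group_index_le (fun y => π (gen y)) inv (⊥ : Subgroup (G ⧸ K))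
    (fun y => by simp only [hgeninv, map_inv]) Eo W isH hinvlt hEo (by simp only [hid, map_one]) Rb
    (fun w hw => by
      rw [hπ]
      exact (QuotientGroup.eq_one_iff _).mpr (hRb w hw))
    nW hW0 sp hW1 (fun y hy => by rw [hH] at hy; exact absurd hy (by simp)) hdef hchk (N := 1) (by norm_num) cF hc0 hclt ys
    (by
      have h2 : (fun y => π (gen y)) '' {y | y ∈ ys} = π '' (gen '' {y | y ∈ ys}) := by
        rw [Set.image_image]
      rw [h2, ← MonoidHom.map_closure, hgen, ← MonoidHom.range_eq_map, MonoidHom.range_eq_top]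
      exact QuotientGroup.mk'_surjective K)
    hlinks
  have h3 : (⊥ : Subgroup (G ⧸ K)).index = 1 := by omega
  have h4 : (⊥ : Subgroup (G ⧸ K)) = ⊤ := Subgroup.index_eq_one.mp h3
  rw [eq_top_iff]
  intro g _
  have h5 : (π g) ∈ (⊥ : Subgroup (G ⧸ K)) := by
    rw [h4]
    trivial
  exact (QuotientGroup.eq_one_iff g).mp h5

end Cfsg.Agent.Lib.ToddCox
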