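/-
Assembling the order and the simplicity of a presented group (helper16).
-/
import Cfsg.Agent.Lib.ToddCox.Simple

set_option autoImplicit false
set_option linter.unusedSectionVars false

namespace Cfsg.Agent.Lib.ToddCox

section final

variable {α : Type} [DecidableEq α] {rels : Set (FreeGroup α)} {LT : List (FreeGroup α)} {sg : α → Bool → ℕ}
  {tab : ℕ → ℕ → ℕ} {N m : ℕ} {ρ : PresentedGroup rels →* Equiv.Perm (Fin N)}

theorem genP_id (h : LT.getD 63 1 = 1) : genP rels LT 63 = 1 := by
  unfold genP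
  rw [h, map_one]

/-- Words act through tables. -/
theorem rep_word (hρ : ∀ r (i : Fin N), ((ρ (PresentedGroup.mk rels r) i : Fin N) : ℕ) = tabW tab (relW sg r) i)
    (hLT : ∀ y, y < m → relW sg (LT.getD y 1) = [y]) {w : List ℕ} (hw : ∀ a ∈ w, a < m) (i : Fin N) :
    ((ρ (wordVal (genP rels LT) w) i : Fin N) : ℕ) = tabW tab w i := by
  induction w generalizing i with
  | nil =>
    have h1 : wordVal (genP rels LT) [] = 1 := by simp [wordVal]
    rw [h1, map_one]
    rfl
  | cons a w ih =>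
    rw [wordVal_cons, map_mul, Equiv.Perm.mul_apply, ih (fun b hb => hw b (List.mem_cons_of_mem a hb)), tabW_cons]
    congr 1
    have ha := hw a List.mem_cons_self
    show ((ρ (PresentedGroup.mk rels (LT.getD a 1)) i : Fin N) : ℕ) = tab a i
    rw [hρ, hLT a ha]
    rfl

/-- The generator set of all positive letters. -/
theorem letSub_top {ys : List ℕ} (hys : ∀ x : α, sg x true ∈ ys)
    (hLT : ∀ x : α, LT.getD (sg x true) 1 = FreeGroup.of x) :
    letSub (genP rels LT) ys = ⊤ := by
  rw [eq_top_iff, ← PresentedGroup.closure_range_of rels]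
  unfold letSub
  rw [Subgroup.closure_le]
  rintro _ ⟨x, rfl⟩
  apply Subgroup.subset_closure
  refine ⟨sg x true, hys x, ?_⟩
  show PresentedGroup.mk rels (LT.getD (sg x true) 1) = _
  rw [hLT]
  rfl

/-- Two bounds give the order and faithfulness. -/
theorem card_and_faithful {el : List ℕ → Equiv.Perm (Fin N)} {L : List (List ℕ)} {M : ℕ}
    (hpos : 0 < Nat.card (PresentedGroup rels)) (hup : Nat.card (PresentedGroup rels) ≤ M)
    (hlow : M ≤ Nat.card (sgsG el L 0)) (hel : ∀ w ∈ L, el w ∈ ρ.range) :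
    Nat.card (PresentedGroup rels) = M ∧ Function.Injective ρ := by
  have h1 : sgsG el L 0 ≤ ρ.range := by
    unfold sgsG
    rw [Subgroup.closure_le]
    rintro _ ⟨w, hw, rfl⟩
    exact hel w (List.mem_of_mem_drop hw)
  have h2 : Nat.card (sgsG el L 0) ≤ Nat.card ρ.range := Subgroup.card_le_of_le h1
  have h3 := Subgroup.card_mul_index ρ.ker
  rw [Subgroup.index_ker] at h3
  have h4 : Nat.card ρ.range ≤ Nat.card (PresentedGroup rels) := by
    rw [← h3]
    have : 0 < Nat.card ρ.ker := by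
      have hfin : Finite (PresentedGroup rels) := Nat.finite_of_card_ne_zero (by omega)
      exact Nat.card_pos
    exact Nat.le_mul_of_pos_left _ this
  have h5 : Nat.card (PresentedGroup rels) = M := by omega
  refine ⟨h5, ?_⟩
  have h6 : Nat.card ρ.ker = 1 := by
    have h7 : Nat.card ρ.range = M := by omega
    have hM : 0 < M := by omega
    rw [h5, h7] at h3
    exact Nat.eq_of_mul_eq_mul_right hM (by rw [h3, one_mul])
  have h8 : ρ.ker = ⊥ := by
    exact Subgroup.eq_bot_of_card_eq _ h6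
  exact (MonoidHom.ker_eq_bot_iff ρ).mp h8

/-- The `p`-th power of a word. -/
def powW (w : List ℕ) : ℕ → List ℕ
  | 0 => []
  | p + 1 => w ++ powW w p

theorem wordVal_append {Φ : Type*} [Group Φ] (gen : ℕ → Φ) (u v : List ℕ) :
    wordVal gen (u ++ v) = wordVal gen v * wordVal gen u := by
  simp [wordVal]

theorem wordVal_powW {Φ : Type*} [Group Φ] (gen : ℕ → Φ) (w : List ℕ) (p : ℕ) :
    wordVal gen (powW w p) = wordVal gen w ^ p := by
  induction p with
  | zero => simp [powW, wordVal]
  | succ p ih =>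
    rw [powW, wordVal_append, ih, pow_succ]

/-- From numbers to points, for the connections inside an orbit. -/
theorem conn_of_tables {Sl : List (FreeGroup α)}
    (hρ : ∀ r (i : Fin N), ((ρ (PresentedGroup.mk rels r) i : Fin N) : ℕ) = tabW tab (relW sg r) i)
    {lo hi : ℕ} (hB2 : ∀ i, lo < i → i < hi → ∃ j, lo ≤ j ∧ j < i ∧ ∃ s ∈ Sl, tabW tab (relW sg s) j = i) :
    ∀ i : Fin N, lo < (i : ℕ) → (i : ℕ) < hi → ∃ j : Fin N, lo ≤ (j : ℕ) ∧ (j : ℕ) < i ∧ ∃ h ∈ subG rels Sl, ρ h j = i := by
  intro i h1 h2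
  obtain ⟨j, hj1, hj2, s, hs, e⟩ := hB2 i h1 h2
  refine ⟨⟨j, by have := i.2; omega⟩, hj1, hj2, PresentedGroup.mk rels s, subG_mem hs, ?_⟩
  apply Fin.ext
  rw [hρ]
  exact e

end final

end Cfsg.Agent.Lib.ToddCox
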