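/-
Checking a table condition on all points, chunk by chunk (helper16).
-/
import Cfsg.Agent.Lib.ToddCox.Final

set_option autoImplicit false

namespace Cfsg.Agent.Lib.ToddCox

theorem all_of_chunks {f : ℕ → Bool} {sz d k N : ℕ} (hd : sz ≤ 2 ^ d) (hN : N ≤ k * sz)
    (h : ∀ j, j < k → allBelow (fun i => f (j * sz + i)) sz d = true) :
    ∀ i, i < N → f i = true := by
  intro i hi
  have hsz : 0 < sz := by
    rcases Nat.eq_zero_or_pos sz with h0 | h0
    · subst h0
      simp at hN
      omega
    · exact h0
  have hj : i / sz < k := by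
    rw [Nat.div_lt_iff_lt_mul hsz]
    omega
  have hm : i % sz < sz := Nat.mod_lt _ hsz
  have := allBelow_spec hd (h (i / sz) hj) (i % sz) hm
  have he : i / sz * sz + i % sz = i := Nat.div_add_mod' i sz
  rw [he] at this
  exact this

end Cfsg.Agent.Lib.ToddCox
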