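/-
A stabilizer chain whose orbit sizes multiply to the group order shows that an element fixing
the base points is trivial (helper16).
-/
import Cfsg.Agent.Lib.ToddCox.Chunk

set_option autoImplicit false
set_option linter.unusedSectionVars false

namespace Cfsg.Agent.Lib.ToddCox

section base

variable {N : ℕ} {tab : ℕ → ℕ → ℕ} {el : List ℕ → Equiv.Perm (Fin N)}

/-- The elements of `K` fixing a point. -/
def fixP (K : Subgroup (Equiv.Perm (Fin N))) (x : Fin N) : Subgroup (Equiv.Perm (Fin N)) where
  carrier := {g | g ∈ K ∧ g x = x}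
  mul_mem' := by
    rintro a b ⟨ha, hax⟩ ⟨hb, hbx⟩
    refine ⟨K.mul_mem ha hb, ?_⟩
    rw [Equiv.Perm.mul_apply, hbx, hax]
  one_mem' := ⟨K.one_mem, rfl⟩
  inv_mem' := by
    rintro a ⟨ha, hax⟩
    refine ⟨K.inv_mem ha, ?_⟩
    rw [Equiv.Perm.inv_eq_iff_eq, hax]

theorem mem_fixP {K : Subgroup (Equiv.Perm (Fin N))} {x : Fin N} {g : Equiv.Perm (Fin N)} :
    g ∈ fixP K x ↔ g ∈ K ∧ g x = x := Iff.rfl

/-- One level of the chain, inside a group containing the generators. -/
theorem level_bound_K {L : List (List ℕ)} {c b o : ℕ} {rec : ℕ → ℕ} (hb : b < N)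
    (hel : ∀ w ∈ L, ∀ i : Fin N, ((el w i : Fin N) : ℕ) = tabW tab w i)
    (hchk : ∀ j, j < o → chkOrbPos tab L c b o N rec j = true)
    {K : Subgroup (Equiv.Perm (Fin N))} (hK : sgsG el L c ≤ K) :
    o * Nat.card (fixP K ⟨b, hb⟩) ≤ Nat.card K := by
  classical
  let x : Fin N := ⟨b, hb⟩
  have hpts : ∀ j, j < o → ∃ (g : Equiv.Perm (Fin N)) (hj : orbPt (rec j) < N), g ∈ K ∧ g x = ⟨orbPt (rec j), hj⟩ := by
    intro j hj
    obtain ⟨g, h1, h2, h3⟩ := orb_reach hb hel hchk _ j rfl hj
    exact ⟨g, h1, hK h2, h3⟩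
  have hmono : ∀ i j, i < j → j < o → orbPt (rec i) < orbPt (rec j) := by
    intro i j hij hj
    induction j, hij using Nat.le_induction with
    | base =>
      have h := hchk i (by omega)
      unfold chkOrbPos at h
      rw [Bool.and_eq_true, Bool.and_eq_true] at h
      have h2 := h.2.1
      rw [blt_true_of_lt hj] at h2
      exact blt_true h2
    | succ j hij ih =>
      have h := hchk j (by omega)
      unfold chkOrbPos at h
      rw [Bool.and_eq_true, Bool.and_eq_true] at h
      have h2 := h.2.1
      rw [blt_true_of_lt hj] at h2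
      have h3 := blt_true h2
      have h4 := ih (by omega)
      exact lt_trans h4 h3
  let A : Set (Fin N) := MulAction.orbit K x
  have hA : o ≤ A.ncard := by
    let f : Fin o → Fin N := fun j => if h : orbPt (rec j) < N then ⟨orbPt (rec j), h⟩ else x
    have hf : Function.Injective f := by
      intro i j hij
      obtain ⟨_, hi', _, _⟩ := hpts i i.2
      obtain ⟨_, hj', _, _⟩ := hpts j j.2
      simp only [f, dif_pos hi', dif_pos hj', Fin.mk.injEq] at hij
      rcases lt_trichotomy (i : ℕ) j with h | h | h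
      · have := hmono _ _ h j.2
        omega
      · exact Fin.ext h
      · have := hmono _ _ h i.2
        omega
    have h1 : Set.range f ⊆ A := by
      rintro _ ⟨j, rfl⟩
      obtain ⟨g, hj', hg, e⟩ := hpts j j.2
      refine ⟨⟨g, hg⟩, ?_⟩
      simp only [f, dif_pos hj']
      exact e
    have h2 : (Set.range f).ncard = o := by
      rw [← Set.image_univ, Set.ncard_image_of_injective _ hf, Set.ncard_univ]
      simp
    have h3 := Set.ncard_le_ncard h1 (Set.toFinite A)
    omega
  have h4 := Subgroup.card_mul_index (MulAction.stabilizer K x)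
  rw [MulAction.index_stabilizer] at h4
  have h5 : Nat.card (fixP K x) ≤ Nat.card (MulAction.stabilizer K x) := by
    let F : fixP K x → MulAction.stabilizer K x := fun s => ⟨⟨s, s.2.1⟩, by
      rw [MulAction.mem_stabilizer_iff]
      exact s.2.2⟩
    have hF : Function.Injective F := by
      intro a b h
      have h2 := congrArg (fun y : MulAction.stabilizer K x => ((y : K) : Equiv.Perm (Fin N))) h
      exact Subtype.ext h2
    exact Nat.card_le_card_of_injective F hF
  calc o * Nat.card (fixP K x) ≤ A.ncard * Nat.card (MulAction.stabilizer K x) := Nat.mul_le_mul hA h5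
    _ = Nat.card K := by
      rw [mul_comm]
      exact h4

/-- Moving a chain down one level. -/
theorem sgs_le_fixP {L : List (List ℕ)} {c c' b : ℕ} (hb : b < N) (hcc : c ≤ c')
    (hel : ∀ w ∈ L, ∀ i : Fin N, ((el w i : Fin N) : ℕ) = tabW tab w i)
    (hfix : ∀ w ∈ L.drop c', tabW tab w b = b)
    {K : Subgroup (Equiv.Perm (Fin N))} (hK : sgsG el L c ≤ K) :
    sgsG el L c' ≤ fixP K ⟨b, hb⟩ := by
  intro g hg
  refine ⟨hK (sgsG_le el L hcc hg), ?_⟩
  unfold sgsG at hg
  induction hg using Subgroup.closure_induction with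
  | mem a ha =>
    obtain ⟨w, hw, rfl⟩ := ha
    have hw' : w ∈ L.drop c' := hw
    apply Fin.ext
    rw [hel w (List.mem_of_mem_drop hw')]
    exact hfix w hw'
  | one => simp
  | mul a b _ _ iha ihb =>
    rw [Equiv.Perm.mul_apply, ihb, iha]
  | inv a _ iha =>
    rw [Equiv.Perm.inv_eq_iff_eq, iha]

theorem chain_mul {P o C C' M : ℕ} (h : P * C ≤ M) (h2 : o * C' ≤ C) : (P * o) * C' ≤ M :=
  le_trans (by rw [mul_assoc]; exact Nat.mul_le_mul_left P h2) h

/-- Fixed by the whole chain and of size at most one. -/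
theorem eq_one_of_card_le {K : Subgroup (Equiv.Perm (Fin N))} {M : ℕ} (hM : 0 < M)
    (h : M * Nat.card K ≤ M) {g : Equiv.Perm (Fin N)} (hg : g ∈ K) : g = 1 := by
  have h1 : Nat.card K ≤ 1 := by
    have : M * Nat.card K ≤ M * 1 := by simpa using h
    exact Nat.le_of_mul_le_mul_left this hM
  have h2 : K = ⊥ := by
    rw [Subgroup.eq_bot_iff_forall]
    intro a ha
    have : Subsingleton K := Finite.card_le_one_iff_subsingleton.mp h1
    have := Subsingleton.elim (⟨a, ha⟩ : K) 1
    exact congrArg Subtype.val this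
  rw [h2] at hg
  exact (Subgroup.mem_bot).mp hg

/-- All points, by chunks and a last part. -/
theorem all_of_chunks2 {f : ℕ → Bool} {sz d k r N : ℕ} (hd : sz ≤ 2 ^ d) (hr : r ≤ 2 ^ d) (hN : N = k * sz + r)
    (h : ∀ j, j < k → allBelow (fun i => f (j * sz + i)) sz d = true)
    (hl : allBelow (fun i => f (k * sz + i)) r d = true) :
    ∀ i, i < N → f i = true := by
  intro i hi
  by_cases hik : i < k * sz
  · exact all_of_chunks hd le_rfl h i hik
  · have h1 : i - k * sz < r := by omega
    have := allBelow_spec hr hl _ h1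
    have he : k * sz + (i - k * sz) = i := by omega
    rw [he] at this
    exact this

end base

end Cfsg.Agent.Lib.ToddCox
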