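/-
A perfect group with a central involution whose quotient is simple and non-abelian is a non-split double cover
of the quotient (helper16).
-/
import Cfsg.Prelude.Def_SporadicB

set_option autoImplicit false

namespace Cfsg.Agent.Lib.ToddCox

open scoped commutatorElement

variable {H K : Type*} [Group H] [Group K]

theorem center_eq_of_simple_quot (hs : IsSimpleGroup K) (hna : ∃ x y : K, x * y ≠ y * x)
    {Z : Subgroup H} [Z.Normal] (hZ : Z ≤ Subgroup.center H) (e : H ⧸ Z ≃* K) :
    Subgroup.center H = Z := by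
  apply le_antisymm _ hZ
  -- the image of the centre in the simple group
  let π : H →* K := e.toMonoidHom.comp (QuotientGroup.mk' Z)
  have hπs : Function.Surjective π := e.surjective.comp (QuotientGroup.mk'_surjective Z)
  have hM : ((Subgroup.center H).map π).Normal := Subgroup.Normal.map inferInstance π hπs
  rcases hs.eq_bot_or_eq_top_of_normal _ hM with h | h
  · intro c hc
    have : π c = 1 := by
      have h2 : π c ∈ (Subgroup.center H).map π := ⟨c, hc, rfl⟩
      rw [h] at h2
      exact (Subgroup.mem_bot).mp h2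
    have h3 : (QuotientGroup.mk' Z) c = 1 := by
      have := e.injective (show e ((QuotientGroup.mk' Z) c) = e 1 by rw [map_one]; exact this)
      exact this
    exact (QuotientGroup.eq_one_iff c).mp h3
  · exfalso
    obtain ⟨x, y, hxy⟩ := hna
    have hx : x ∈ (Subgroup.center H).map π := by rw [h]; trivial
    have hy : y ∈ (Subgroup.center H).map π := by rw [h]; trivial
    obtain ⟨a, ha, rfl⟩ := hx
    obtain ⟨b, hb, rfl⟩ := hy
    apply hxy
    rw [← map_mul, ← map_mul, Subgroup.mem_center_iff.mp ha b]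

theorem comm_central_left {c a b : H} (hc : ∀ x : H, x * c = c * x) : ⁅c * a, b⁆ = ⁅a, b⁆ := by
  simp only [commutatorElement_def, mul_inv_rev]
  calc c * a * b * (a⁻¹ * c⁻¹) * b⁻¹ = c * (a * b * a⁻¹) * c⁻¹ * b⁻¹ := by group
    _ = (a * b * a⁻¹) * c * c⁻¹ * b⁻¹ := by rw [hc]
    _ = a * b * a⁻¹ * b⁻¹ := by group

theorem comm_central_right {c a b : H} (hc : ∀ x : H, x * c = c * x) : ⁅a, c * b⁆ = ⁅a, b⁆ := by
  rw [← commutatorElement_inv, comm_central_left hc, commutatorElement_inv]

/-- The criterion for a non-split double cover. -/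
theorem isNonsplitDoubleCover_of (hs : IsSimpleGroup K) (hna : ∃ x y : K, x * y ≠ y * x)
    {z : H} (hz1 : z ≠ 1) (hz2 : z * z = 1) (hzc : ∀ g : H, g * z = z * g)
    (hperf : commutator H = ⊤)
    {Z : Subgroup H} [Z.Normal] (hZ : Z = Subgroup.zpowers z) (e : H ⧸ Z ≃* K) :
    Cfsg.IsNonsplitDoubleCover H K := by
  have hZle : Z ≤ Subgroup.center H := by
    rw [hZ, Subgroup.zpowers_le, Subgroup.mem_center_iff]
    exact hzc
  have hc := center_eq_of_simple_quot hs hna hZle e
  refine ⟨?_, ⟨(QuotientGroup.quotientMulEquivOfEq hc).trans e⟩, ?_⟩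
  · rw [hc, hZ, Nat.card_zpowers]
    have : Fact (Nat.Prime 2) := ⟨Nat.prime_two⟩
    apply orderOf_eq_prime
    · rw [pow_two]; exact hz2
    · exact hz1
  · intro L hL
    have hcomm : commutator H ≤ L := by
      unfold commutator
      rw [Subgroup.commutator_le]
      intro g₁ _ g₂ _
      obtain ⟨⟨c₁, l₁⟩, h₁⟩ := hL.2 g₁
      obtain ⟨⟨c₂, l₂⟩, h₂⟩ := hL.2 g₂
      have h₁' : (c₁ : H) * (l₁ : H) = g₁ := h₁
      have h₂' : (c₂ : H) * (l₂ : H) = g₂ := h₂
      have hc₁ := Subgroup.mem_center_iff.mp c₁.2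
      have hc₂ := Subgroup.mem_center_iff.mp c₂.2
      rw [← h₁', ← h₂', comm_central_left hc₁, comm_central_right hc₂]
      simp only [commutatorElement_def]
      exact L.mul_mem (L.mul_mem (L.mul_mem l₁.2 l₂.2) (L.inv_mem l₁.2)) (L.inv_mem l₂.2)
    have hzL : z ∈ L := hcomm (by rw [hperf]; trivial)
    have hzC : z ∈ Subgroup.center H := hZle (by rw [hZ]; exact Subgroup.mem_zpowers z)
    have hdis := hL.disjoint
    have := (Subgroup.disjoint_def.mp hdis) hzC hzL
    exact hz1 this

end Cfsg.Agent.Lib.ToddCox
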