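/-
Conjugacy classes of 3-transpositions from a transitive action with a central involution of the point stabilizer
(helper16).
-/
import Cfsg.Agent.Lib.ToddCox.Simple
import Cfsg.Agent.Lib.ToddCox.DCover

set_option autoImplicit false
set_option linter.unusedSectionVars false

namespace Cfsg.Agent.Lib.ToddCox

section rep

variable {G : Type*} [Group G] {n : ℕ} (ρ : G →* Equiv.Perm (Fin n))

/-- Every point of an interval is reached from its first point. -/
theorem conn_rep {H : Subgroup G} {lo s : ℕ} (hlo : lo < n)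
    (h : ∀ i : Fin n, lo < (i : ℕ) → (i : ℕ) < lo + s → ∃ j : Fin n, lo ≤ (j : ℕ) ∧ (j : ℕ) < i ∧ ∃ g ∈ H, ρ g j = i) :
    ∀ i : Fin n, lo ≤ (i : ℕ) → (i : ℕ) < lo + s → ∃ g ∈ H, ρ g ⟨lo, hlo⟩ = i := by
  intro i
  induction' hm : (i : ℕ) using Nat.strong_induction_on with m ih generalizing i
  intro h1 h2
  by_cases hc : m = lo
  · refine ⟨1, H.one_mem, ?_⟩
    apply Fin.ext
    simp [hm, hc]
  · obtain ⟨j, hj1, hj2, g, hg, e⟩ := h i (by omega) (by omega)
    obtain ⟨g2, hg2, e2⟩ := ih j (by omega) j rfl hj1 (by omega)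
    refine ⟨g * g2, H.mul_mem hg hg2, ?_⟩
    rw [map_mul, Equiv.Perm.mul_apply, e2, e]

/-- A subgroup of the right index fixing a point of a transitive action is the stabilizer. -/
theorem mem_of_fix [Finite G] {H : Subgroup G} (hn : 0 < n) (hfix : ∀ h ∈ H, ρ h ⟨0, hn⟩ = ⟨0, hn⟩)
    (htrans : ∀ i : Fin n, ∃ g, ρ g ⟨0, hn⟩ = i) (hidx : H.index = n) {g : G} (hg : ρ g ⟨0, hn⟩ = ⟨0, hn⟩) : g ∈ H := by
  classical
  let inst : MulAction G (Fin n) := MulAction.compHom (Fin n) ρ
  let o : Fin n := ⟨0, hn⟩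
  let S : Subgroup G := MulAction.stabilizer G o
  have hHS : H ≤ S := fun h hh => hfix h hh
  have hS : S.index = n := by
    have h1 : S.index = (MulAction.orbit G o).ncard := MulAction.index_stabilizer G o
    have h2 : MulAction.orbit G o = Set.univ := by
      ext i
      simp only [Set.mem_univ, iff_true]
      obtain ⟨g, hg⟩ := htrans i
      exact ⟨g, hg⟩
    rw [h1, h2, Set.ncard_univ]
    simp
  have h3 := Subgroup.relIndex_mul_index hHS
  rw [hS, hidx] at h3
  have h4 : H.relIndex S = 1 := by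
    have : H.relIndex S * n = 1 * n := by rw [h3, one_mul]
    exact Nat.eq_of_mul_eq_mul_right hn this
  have h5 : S ≤ H := Subgroup.relIndex_eq_one.mp h4
  exact h5 hg

/-- A subgroup between the stabilizer and the group. -/
theorem max_of_rep [Finite G] {H C : Subgroup G} (hn : 0 < n) (hfix : ∀ h ∈ H, ρ h ⟨0, hn⟩ = ⟨0, hn⟩)
    (htrans : ∀ i : Fin n, ∃ g, ρ g ⟨0, hn⟩ = i) (hidx : H.index = n)
    (l : List ℕ) (hl : 1 + l.sum = n) (hconn : BlocksConn ρ H l 1)
    (hsum : ∀ d ∈ ssums l, (d + 1) ∣ n → d = 0 ∨ d + 1 = n) (hHC : H ≤ C) : C = H ∨ C = ⊤ := by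
  classical
  let inst : MulAction G (Fin n) := MulAction.compHom (Fin n) ρ
  have hsm : ∀ (g : G) (i : Fin n), g • i = ρ g i := fun _ _ => rfl
  let o : Fin n := ⟨0, hn⟩
  have hstab : MulAction.stabilizer G o ≤ C := by
    intro g hg
    exact hHC (mem_of_fix ρ hn hfix htrans hidx hg)
  let B : Set (Fin n) := MulAction.orbit C o
  have hblock : MulAction.IsBlock G B := MulAction.IsBlock.of_orbit hstab
  have ho : o ∈ B := MulAction.mem_orbit_self o
  have hpre : MulAction.IsPretransitive G (Fin n) := by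
    refine ⟨fun i j => ?_⟩
    obtain ⟨g1, h1⟩ := htrans i
    obtain ⟨g2, h2⟩ := htrans j
    refine ⟨g2 * g1⁻¹, ?_⟩
    have h3 : (ρ g1)⁻¹ ((ρ g1) ⟨0, hn⟩) = ⟨0, hn⟩ := by
      rw [Equiv.Perm.inv_eq_iff_eq]
    rw [mul_smul, hsm g1⁻¹, hsm g2, ← h1, map_inv, h3, h2]
  have hdvd : B.ncard ∣ n := by
    have := hblock.ncard_dvd_card ⟨o, ho⟩
    simpa using this
  have hBm : ∀ i : Fin n, i ∈ B ↔ ∃ ν ∈ C, ρ ν o = i := by
    intro i
    constructor
    · rintro ⟨ν, rfl⟩
      exact ⟨ν, ν.2, rfl⟩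
    · rintro ⟨ν, hν, rfl⟩
      exact ⟨⟨ν, hν⟩, rfl⟩
  have hHB : ∀ h ∈ H, ∀ i : Fin n, i ∈ B → ρ h i ∈ B := by
    intro h hh i hi
    obtain ⟨ν, hν, rfl⟩ := (hBm i).mp hi
    refine (hBm _).mpr ⟨h * ν, C.mul_mem (hHC hh) hν, ?_⟩
    rw [map_mul, Equiv.Perm.mul_apply]
  let P : ℕ → Prop := fun i => ∃ hi : i < n, (⟨i, hi⟩ : Fin n) ∈ B
  have hAO : AllOrNone P l 1 := by
    refine allOrNone_of_conn ρ (H := H) ?_ l 1 (by omega) hconn
    rintro h hh i ⟨_, hi⟩
    exact ⟨(ρ h i).2, hHB h hh i hi⟩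
  have hcount := count_in_ssums P l 1 hAO
  set d := ((Finset.Ico 1 (1 + l.sum)).filter P).card with hd
  have hBcard : B.ncard = d + 1 := by
    have h2 : (Fin.val '' B) = ↑((Finset.range n).filter P) := by
      ext i
      constructor
      · rintro ⟨j, hj, rfl⟩
        simp only [Finset.coe_filter, Finset.mem_range, Set.mem_ofPred_eq]
        exact ⟨j.2, j.2, hj⟩
      · intro hi
        simp only [Finset.coe_filter, Finset.mem_range, Set.mem_ofPred_eq] at hi
        obtain ⟨h3, h4, h5⟩ := hi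
        exact ⟨⟨i, h3⟩, h5, rfl⟩
    have h3 := Set.ncard_image_of_injective B (Fin.val_injective (n := n))
    rw [← h3, h2, Set.ncard_coe_finset]
    have h4 : Finset.range n = insert 0 (Finset.Ico 1 (1 + l.sum)) := by
      ext i
      simp only [Finset.mem_range, Finset.mem_insert, Finset.mem_Ico]
      omega
    rw [h4, Finset.filter_insert, if_pos (⟨hn, ho⟩ : P 0), Finset.card_insert_of_notMem (by
      simp)]
  rcases hsum d hcount (by rw [← hBcard]; exact hdvd) with h0 | h0
  · left
    apply le_antisymm _ hHC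
    intro c hc
    have hB1 : B.ncard = 1 := by omega
    obtain ⟨q, hq⟩ := Set.ncard_eq_one.mp hB1
    have h1 : ρ c o ∈ B := (hBm _).mpr ⟨c, hc, rfl⟩
    have h2 := ho
    rw [hq, Set.mem_singleton_iff] at h1 h2
    exact mem_of_fix ρ hn hfix htrans hidx (h1.trans h2.symm)
  · right
    rw [eq_top_iff]
    intro g _
    have hBn : B.ncard = n := by omega
    have hBu : B = Set.univ := by
      apply Set.eq_of_subset_of_ncard_le (Set.subset_univ _)
      rw [Set.ncard_univ, hBn]
      simp
    have h1 : ρ g o ∈ B := by rw [hBu]; trivial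
    obtain ⟨c, hc, e⟩ := (hBm _).mp h1
    have h2 : ρ (c⁻¹ * g) o = o := by
      rw [map_mul, Equiv.Perm.mul_apply, ← e, map_inv, Equiv.Perm.inv_eq_iff_eq]
    have h3 := hHC (mem_of_fix ρ hn hfix htrans hidx h2)
    have := C.mul_mem hc h3
    rwa [mul_inv_cancel_left] at this

end rep

section conj

variable {G : Type*} [Group G]

/-- The number of conjugates. -/
theorem card_conjugatesOf (z : G) : Nat.card (conjugatesOf z) = (Subgroup.centralizer ({z} : Set G)).index := by
  classical
  set C := Subgroup.centralizer ({z} : Set G) with hC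
  have hmem : ∀ g : G, g * z * g⁻¹ ∈ conjugatesOf z := fun g => by
    show IsConj z (g * z * g⁻¹)
    rw [isConj_iff]
    exact ⟨g, rfl⟩
  let f : G ⧸ C → conjugatesOf z := Quotient.lift (fun g => (⟨g * z * g⁻¹, hmem g⟩ : conjugatesOf z)) (by
    intro a b hab
    have h1 : a⁻¹ * b ∈ C := QuotientGroup.leftRel_apply.mp hab
    have h2 : (a⁻¹ * b) * z = z * (a⁻¹ * b) := (Subgroup.mem_centralizer_singleton_iff.mp h1)
    apply Subtype.ext
    show a * z * a⁻¹ = b * z * b⁻¹
    calc a * z * a⁻¹ = a * (z * (a⁻¹ * b)) * b⁻¹ := by group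
      _ = a * ((a⁻¹ * b) * z) * b⁻¹ := by rw [h2]
      _ = b * z * b⁻¹ := by group)
  have hf : Function.Bijective f := by
    constructor
    · intro a b
      induction a using QuotientGroup.induction_on with
      | H a =>
        induction b using QuotientGroup.induction_on with
        | H b =>
          intro hab
          have h1 : a * z * a⁻¹ = b * z * b⁻¹ := congrArg Subtype.val hab
          rw [QuotientGroup.eq]
          apply Subgroup.mem_centralizer_singleton_iff.mpr
          calc (a⁻¹ * b) * z = a⁻¹ * (b * z * b⁻¹) * b := by group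
            _ = a⁻¹ * (a * z * a⁻¹) * b := by rw [h1]
            _ = z * (a⁻¹ * b) := by group
    · rintro ⟨d, hd⟩
      have hd' : IsConj z d := hd
      rw [isConj_iff] at hd'
      obtain ⟨g, rfl⟩ := hd'
      exact ⟨(g : G ⧸ C), rfl⟩
  exact (Nat.card_eq_of_bijective f hf).symm

/-- Pairs of conjugates, from double coset representatives. -/
theorem pair_of_reps {z : G} {H : Subgroup G} (hzH : ∀ h ∈ H, h * z = z * h) {reps : List G}
    (hdc : ∀ t : G, ∃ r ∈ reps, ∃ h ∈ H, ∃ h' ∈ H, t = h * r * h')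
    (hrep : ∀ r ∈ reps, (z * (r * z * r⁻¹)) ^ 2 = 1 ∨ (z * (r * z * r⁻¹)) ^ 3 = 1) :
    ∀ d ∈ conjugatesOf z, ∀ e ∈ conjugatesOf z, (d * e) ^ 2 = 1 ∨ (d * e) ^ 3 = 1 := by
  intro d hd e he
  have hd' : IsConj z d := hd
  have he' : IsConj z e := he
  rw [isConj_iff] at hd' he'
  obtain ⟨g, rfl⟩ := hd'
  obtain ⟨g', rfl⟩ := he'
  obtain ⟨r, hr, h, hh, h', hh', ht⟩ := hdc (g⁻¹ * g')
  have e1 : h' * z * h'⁻¹ = z := by
    rw [hzH h' hh', mul_assoc, mul_inv_cancel, mul_one]
  have e2 : z * h = h * z := (hzH h hh).symm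
  have hg' : g' = g * (h * r * h') := by
    rw [← ht, mul_inv_cancel_left]
  have key : g * z * g⁻¹ * (g' * z * g'⁻¹) = (g * h) * (z * (r * z * r⁻¹)) * (g * h)⁻¹ := by
    subst hg'
    calc g * z * g⁻¹ * (g * (h * r * h') * z * (g * (h * r * h'))⁻¹)
        = g * (z * h) * r * (h' * z * h'⁻¹) * r⁻¹ * h⁻¹ * g⁻¹ := by group
      _ = g * (h * z) * r * z * r⁻¹ * h⁻¹ * g⁻¹ := by rw [e1, e2]
      _ = (g * h) * (z * (r * z * r⁻¹)) * (g * h)⁻¹ := by group
  rw [key, conj_pow, conj_pow]
  rcases hrep r hr with h0 | h0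
  · left
    rw [h0]
    group
  · right
    rw [h0]
    group

/-- A conjugacy class generates a simple group. -/
theorem closure_conj_top (hs : IsSimpleGroup G) {z : G} (hz : z ≠ 1) : Subgroup.closure (conjugatesOf z) = ⊤ := by
  have h1 : Subgroup.normalClosure ({z} : Set G) = Subgroup.closure (conjugatesOf z) := by
    unfold Subgroup.normalClosure
    congr 1
    unfold Group.conjugatesOfSet
    simp
  rw [← h1]
  rcases hs.eq_bot_or_eq_top_of_normal _ (Subgroup.normalClosure_normal (s := ({z} : Set G))) with h | h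
  · exfalso
    apply hz
    have h2 : z ∈ Subgroup.normalClosure ({z} : Set G) := Subgroup.subset_normalClosure rfl
    rw [h] at h2
    exact (Subgroup.mem_bot).mp h2
  · exact h

/-- Conjugate centralizers are isomorphic. -/
noncomputable def centralizerConj (g z : G) :
    Subgroup.centralizer ({z} : Set G) ≃* Subgroup.centralizer ({g * z * g⁻¹} : Set G) where
  toFun x := ⟨g * x * g⁻¹, by
    apply Subgroup.mem_centralizer_singleton_iff.mpr
    have h := Subgroup.mem_centralizer_singleton_iff.mp x.2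
    calc g * x * g⁻¹ * (g * z * g⁻¹) = g * (x * z) * g⁻¹ := by group
      _ = g * (z * x) * g⁻¹ := by rw [h]
      _ = g * z * g⁻¹ * (g * x * g⁻¹) := by group⟩
  invFun y := ⟨g⁻¹ * y * g, by
    apply Subgroup.mem_centralizer_singleton_iff.mpr
    have h := Subgroup.mem_centralizer_singleton_iff.mp y.2
    calc g⁻¹ * y * g * z = g⁻¹ * (y * (g * z * g⁻¹)) * g := by group
      _ = g⁻¹ * ((g * z * g⁻¹) * y) * g := by rw [h]
      _ = z * (g⁻¹ * y * g) := by group⟩
  left_inv x := by
    apply Subtype.ext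
    show g⁻¹ * (g * x * g⁻¹) * g = x
    group
  right_inv y := by
    apply Subtype.ext
    show g * (g⁻¹ * y * g) * g⁻¹ = y
    group
  map_mul' a b := by
    apply Subtype.ext
    show g * (a * b) * g⁻¹ = (g * a * g⁻¹) * (g * b * g⁻¹)
    group

end conj

/-- A non-split double cover, transported along an isomorphism. -/
theorem IsNonsplitDoubleCover_of_equiv {A A' K : Type*} [Group A] [Group A'] [Group K] (e : A ≃* A')
    (h : Cfsg.IsNonsplitDoubleCover A K) : Cfsg.IsNonsplitDoubleCover A' K := by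
  obtain ⟨h1, ⟨h2⟩, h3⟩ := h
  refine ⟨?_, ⟨?_⟩, ?_⟩
  · rw [← h1]
    exact Nat.card_congr (Subgroup.centerCongr e).symm.toEquiv
  · refine MulEquiv.trans (QuotientGroup.congr (Subgroup.center A') (Subgroup.center A) e.symm ?_) h2
    ext x
    simp only [Subgroup.mem_map, Subgroup.mem_center_iff]
    constructor
    · rintro ⟨y, hy, rfl⟩
      intro g
      have := hy (e g)
      have h4 := congrArg e.symm this
      simpa using h4
    · intro hx
      refine ⟨e x, fun g => ?_, by simp⟩
      have := hx (e.symm g)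
      have h4 := congrArg e this
      simpa using h4
  · intro L hL
    apply h3 (L.map e.symm.toMonoidHom)
    apply Subgroup.isComplement'_of_disjoint_and_mul_eq_univ
    · rw [Subgroup.disjoint_def]
      rintro x hx ⟨y, hy, rfl⟩
      have hy' : y ∈ Subgroup.center A' := by
        rw [Subgroup.mem_center_iff] at hx ⊢
        intro g
        have := hx (e.symm g)
        have h4 := congrArg e this
        simpa using h4
      have := (Subgroup.disjoint_def.mp hL.disjoint) hy' hy
      rw [this]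
      simp
    · ext x
      simp only [Set.mem_univ, iff_true]
      obtain ⟨⟨c, l⟩, hcl⟩ := hL.2 (e x)
      have hcl' : (c : A') * (l : A') = e x := hcl
      refine Set.mem_mul.mpr ⟨e.symm c, ?_, e.symm l, ⟨l, l.2, rfl⟩, ?_⟩
      · show e.symm c ∈ Subgroup.center A
        rw [Subgroup.mem_center_iff]
        intro g
        have := Subgroup.mem_center_iff.mp c.2 (e g)
        have h4 := congrArg e.symm this
        simpa using h4
      · rw [← map_mul, hcl']
        simp

end Cfsg.Agent.Lib.ToddCox
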