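/-
A point stabilizer is maximal if, together with one element from each of its other orbits, it is transitive;
simplicity from maximality (helper16).
-/
import Cfsg.Agent.Lib.ToddCox.Transp
import Cfsg.Agent.Lib.ToddCox.Base

set_option autoImplicit false
set_option linter.unusedSectionVars false

namespace Cfsg.Agent.Lib.ToddCox

section prim

variable {G : Type*} [Group G] {n : ℕ} (ρ : G →* Equiv.Perm (Fin n))

/-- An element together with which a subgroup is everything. -/
theorem top_of_chk {tab : ℕ → ℕ → ℕ} (gen : ℕ → G) {L : List (List ℕ)} {rec : ℕ → ℕ} (hn : 0 < n)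
    (hel : ∀ w ∈ L, ∀ i : Fin n, ((ρ (wordVal gen w) i : Fin n) : ℕ) = tabW tab w i)
    (hchk : ∀ j, j < n → chkOrbPos tab L 0 0 n n rec j = true)
    (hpt : ∀ j, j < n → orbPt (rec j) = j)
    {C : Subgroup G} (hC : ∀ w ∈ L, wordVal gen w ∈ C)
    (hstab : ∀ g : G, ρ g ⟨0, hn⟩ = ⟨0, hn⟩ → g ∈ C) : C = ⊤ := by
  rw [eq_top_iff]
  intro g _
  let el : List ℕ → Equiv.Perm (Fin n) := fun w => ρ (wordVal gen w)
  have hS : sgsG el L 0 ≤ C.map ρ := by
    unfold sgsG
    rw [Subgroup.closure_le]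
    rintro _ ⟨w, hw, rfl⟩
    have hw' : w ∈ L := by simpa using hw
    exact ⟨_, hC w hw', rfl⟩
  set i := ρ g ⟨0, hn⟩ with hi
  obtain ⟨s, hp, hs, e⟩ := orb_reach (el := el) (b := 0) hn hel hchk _ (i : ℕ) rfl i.2
  obtain ⟨c, hc, rfl⟩ := hS hs
  have e2 : ρ c ⟨0, hn⟩ = i := by
    rw [e]
    apply Fin.ext
    exact hpt _ i.2
  have h2 : ρ (c⁻¹ * g) ⟨0, hn⟩ = ⟨0, hn⟩ := by
    rw [map_mul, Equiv.Perm.mul_apply, ← hi, ← e2, map_inv, Equiv.Perm.inv_eq_iff_eq]
  have h3 := C.mul_mem hc (hstab _ h2)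
  rwa [mul_inv_cancel_left] at h3

/-- Maximality of a point stabilizer. -/
theorem max_of_cover [Finite G] {H : Subgroup G} (hn : 0 < n) (hfix : ∀ h ∈ H, ρ h ⟨0, hn⟩ = ⟨0, hn⟩)
    (htrans : ∀ i : Fin n, ∃ g, ρ g ⟨0, hn⟩ = i) (hidx : H.index = n)
    (hcover : ∀ i : Fin n, (i : ℕ) ≠ 0 → ∃ r : G, (∀ C : Subgroup G, H ≤ C → r ∈ C → C = ⊤) ∧ ∃ g ∈ H, ρ (g * r) ⟨0, hn⟩ = i)
    {C : Subgroup G} (hHC : H ≤ C) : C = H ∨ C = ⊤ := by
  by_cases hle : C ≤ H
  · exact Or.inl (le_antisymm hle hHC)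
  · right
    obtain ⟨c, hc, hnc⟩ := SetLike.not_le_iff_exists.mp hle
    have hi : ((ρ c ⟨0, hn⟩ : Fin n) : ℕ) ≠ 0 := by
      intro h0
      apply hnc
      exact mem_of_fix ρ hn hfix htrans hidx (Fin.ext h0)
    obtain ⟨r, hr, g, hg, e⟩ := hcover _ hi
    apply hr C hHC
    have h2 : ρ ((g * r)⁻¹ * c) ⟨0, hn⟩ = ⟨0, hn⟩ := by
      rw [map_mul, Equiv.Perm.mul_apply, ← e, map_inv, Equiv.Perm.inv_eq_iff_eq]
    have h3 := hHC (mem_of_fix ρ hn hfix htrans hidx h2)
    have h4 : r = g⁻¹ * c * ((g * r)⁻¹ * c)⁻¹ := by group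
    rw [h4]
    exact C.mul_mem (C.mul_mem (C.inv_mem (hHC hg)) hc) (C.inv_mem h3)

/-- Simplicity from a maximal point stabilizer. -/
theorem simple_of_max [Finite G] [Nontrivial G] (hinj : Function.Injective ρ) (hn : 0 < n)
    (H : Subgroup G) (hfix : ∀ h ∈ H, ρ h ⟨0, hn⟩ = ⟨0, hn⟩) (htrans : ∀ i : Fin n, ∃ g, ρ g ⟨0, hn⟩ = i)
    (hmax : ∀ C : Subgroup G, H ≤ C → C = H ∨ C = ⊤)
    (x : G) (p a : ℕ) (hp : p.Prime) (hxp : x ^ p = 1) (hpa : p ^ a ∣ n) (hpa' : ¬ p ^ (a + 1) ∣ Nat.card G)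
    (hcl : Subgroup.normalClosure {x} = ⊤) : IsSimpleGroup G := by
  classical
  let inst : MulAction G (Fin n) := MulAction.compHom (Fin n) ρ
  have hsm : ∀ (g : G) (i : Fin n), g • i = ρ g i := fun _ _ => rfl
  let o : Fin n := ⟨0, hn⟩
  refine { eq_bot_or_eq_top_of_normal := ?_ }
  intro N hN
  by_cases hbot : N = ⊥
  · exact Or.inl hbot
  right
  rcases hmax (N ⊔ H) le_sup_right with h | h
  · -- N fixes the point, hence acts trivially
    exfalso
    apply hbot
    rw [eq_bot_iff]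
    intro ν hν
    have hNH : N ≤ H := by
      rw [← h]
      exact le_sup_left
    have hfixN : ∀ μ ∈ N, ρ μ o = o := fun μ hμ => hfix μ (hNH hμ)
    have : ρ ν = 1 := by
      ext i
      obtain ⟨g, hg⟩ := htrans i
      have h2 := hfixN (g⁻¹ * ν * g) (by
        have := hN.conj_mem ν hν g⁻¹
        rwa [inv_inv] at this)
      simp only [map_mul, map_inv, Equiv.Perm.mul_apply] at h2
      rw [Equiv.Perm.inv_eq_iff_eq] at h2
      simp only [Equiv.Perm.coe_one, id]
      congr 1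
      rw [← hg]
      exact h2
    rw [Subgroup.mem_bot]
    apply hinj
    rw [this, map_one]
  · -- N is transitive
    have hBn : (MulAction.orbit N o).ncard = n := by
      have hu : MulAction.orbit N o = Set.univ := by
        ext i
        simp only [Set.mem_univ, iff_true]
        obtain ⟨g, hg⟩ := htrans i
        have hg2 : g ∈ ((N ⊔ H : Subgroup G) : Set G) := by rw [h]; trivial
        rw [Subgroup.normal_mul] at hg2
        obtain ⟨ν, hν, η, hη, rfl⟩ := Set.mem_mul.mp hg2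
        refine ⟨⟨ν, hν⟩, ?_⟩
        show ρ ν o = i
        rw [← hg, map_mul, Equiv.Perm.mul_apply]
        have : ρ η o = o := hfix η hη
        rw [this]
      rw [hu, Set.ncard_univ]
      simp
    have h1 := Subgroup.card_mul_index (MulAction.stabilizer N o)
    rw [MulAction.index_stabilizer] at h1
    have h2 : n ∣ Nat.card N := by
      refine Dvd.intro_left (Nat.card (MulAction.stabilizer N o)) ?_
      rw [← h1]
      exact congrArg _ hBn.symm
    have h3 : p ^ a ∣ Nat.card N := hpa.trans h2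
    have h4 := Subgroup.card_mul_index N
    have h5 : ¬ p ∣ N.index := by
      intro h6
      apply hpa'
      rw [← h4, pow_succ]
      exact Nat.mul_dvd_mul h3 h6
    have hfinQ : Finite (G ⧸ N) := inferInstance
    have h6 : (x : G ⧸ N) ^ p = 1 := by
      rw [← QuotientGroup.mk_pow, hxp]
      rfl
    have h7 : orderOf (x : G ⧸ N) ∣ p := orderOf_dvd_of_pow_eq_one h6
    have h8 : orderOf (x : G ⧸ N) ∣ N.index := by
      have := orderOf_dvd_natCard (x : G ⧸ N)
      exact this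
    have h9 : orderOf (x : G ⧸ N) = 1 := by
      rcases (Nat.dvd_prime hp).mp h7 with h | h
      · exact h
      · rw [h] at h8
        exact absurd h8 h5
    have h10 : (x : G ⧸ N) = 1 := orderOf_eq_one_iff.mp h9
    have h11 : x ∈ N := (QuotientGroup.eq_one_iff x).mp h10
    rw [eq_top_iff, ← hcl]
    exact Subgroup.normalClosure_le_normal (by simpa using h11)

end prim

end Cfsg.Agent.Lib.ToddCox

namespace Cfsg.Agent.Lib.ToddCox

theorem mk_eq_word_gen {α : Type} [DecidableEq α] {rels : Set (FreeGroup α)} {RL : List (FreeGroup α)} {Iv : List α}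
    {LT : List (FreeGroup α)} {sg : α → Bool → ℕ} {inv : ℕ → ℕ} (h : LettersOK rels RL Iv LT sg inv) (r : FreeGroup α) :
    PresentedGroup.mk rels r = wordVal (genP rels LT) (relW sg r) := by
  rw [← lift_eq_wordVal (PresentedGroup.of : α → PresentedGroup rels) (genP rels LT) sg h.genSg r, mk_eq_lift]

/-- Pieces of a check by slices with a second condition. -/
theorem and_of_bits {f g : ℕ → Bool} (hi d n : ℕ) (hn : hi ≤ n * 2 ^ d)
    (h : ∀ j, j < n → allBits (fun k => bif Nat.blt k hi then and (f k) (g k) else true) d (j * 2 ^ d) = true) :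
    ∀ k, k < hi → f k = true ∧ g k = true := by
  intro k hk
  have := defs_of_bits (f := fun k => and (f k) (g k)) hi d n hn h k hk
  simpa using this

end Cfsg.Agent.Lib.ToddCox
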