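/-
Homomorphic images of simple presented groups (helper16).
-/
import Cfsg.Agent.Lib.ToddCox.Prim

set_option autoImplicit false

namespace Cfsg.Agent.Lib.ToddCox

section
variable {Q Γ : Type*} [Group Q] [Group Γ]

theorem injective_of_simple (hs : IsSimpleGroup Q) (φ : Q →* Γ) {q : Q} (hq : φ q ≠ 1) : Function.Injective φ := by
  rw [injective_iff_map_eq_one]
  rcases hs.eq_bot_or_eq_top_of_normal φ.ker inferInstance with h | h
  · intro a ha
    have : a ∈ φ.ker := ha
    rw [h] at this
    exact (Subgroup.mem_bot).mp this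
  · exfalso
    apply hq
    have : q ∈ φ.ker := by rw [h]; trivial
    exact this

theorem simple_range (hs : IsSimpleGroup Q) (φ : Q →* Γ) {q : Q} (hq : φ q ≠ 1) :
    IsSimpleGroup φ.range ∧ Nat.card φ.range = Nat.card Q := by
  have hinj := injective_of_simple hs φ hq
  let e : Q ≃* φ.range := MonoidHom.ofInjective hinj
  exact ⟨e.symm.isSimpleGroup, (Nat.card_congr e.toEquiv).symm⟩

end

theorem range_le_of_gens {α Γ : Type*} [Group Γ] {rels : Set (FreeGroup α)} (φ : PresentedGroup rels →* Γ)
    (K : Subgroup Γ) (h : ∀ a, φ (PresentedGroup.of a) ∈ K) : φ.range ≤ K := by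
  rintro _ ⟨q, rfl⟩
  have hq : q ∈ (⊤ : Subgroup (PresentedGroup rels)) := trivial
  rw [← PresentedGroup.closure_range_of] at hq
  induction hq using Subgroup.closure_induction with
  | mem a ha =>
    obtain ⟨x, rfl⟩ := ha
    exact h x
  | one => rw [map_one]; exact K.one_mem
  | mul a b _ _ iha ihb => rw [map_mul]; exact K.mul_mem iha ihb
  | inv a _ iha => rw [map_inv]; exact K.inv_mem iha

/-- The map out of a group presented by `coxRelators edges ∪ extra`. -/
noncomputable def presMap {α : Type} {Γ : Type*} [DecidableEq α] [Group Γ] (edges : List (α × ℕ × α)) (extra : List (FreeGroup α))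
    (f : α → Γ) (h : ∀ r ∈ coxList edges ++ extra, FreeGroup.lift f r = 1) :
    PresentedGroup (Spor.coxRelators edges ∪ {r | r ∈ extra}) →* Γ :=
  PresentedGroup.toGroup (f := f) (fun r hr => h r ((mem_rels_iff edges extra r).mp hr))

theorem presMap_of {α : Type} {Γ : Type*} [DecidableEq α] [Group Γ] (edges : List (α × ℕ × α)) (extra : List (FreeGroup α))
    (f : α → Γ) (h : ∀ r ∈ coxList edges ++ extra, FreeGroup.lift f r = 1) (a : α) :
    presMap edges extra f h (PresentedGroup.of a) = f a :=
  PresentedGroup.toGroup.of _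

theorem presMap_prod {α : Type} {Γ : Type*} [DecidableEq α] [Group Γ] (edges : List (α × ℕ × α)) (extra : List (FreeGroup α))
    (f : α → Γ) (h : ∀ r ∈ coxList edges ++ extra, FreeGroup.lift f r = 1) (l : List α) :
    presMap edges extra f h ((l.map PresentedGroup.of).prod) = (l.map f).prod := by
  rw [map_list_prod, List.map_map]
  congr 1
  apply List.map_congr_left
  intro a _
  exact presMap_of edges extra f h a

end Cfsg.Agent.Lib.ToddCox
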