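/-
Homomorphisms out of a presented group given by words in the letters of another group (helper16).
-/
import Cfsg.Agent.Lib.ToddCox.OpMap
import Cfsg.Agent.Lib.ToddCox.Final

set_option autoImplicit false

namespace Cfsg.Agent.Lib.ToddCox

open scoped commutatorElement

section
variable {α : Type} [DecidableEq α] {Φ : Type*} [Group Φ]

/-- Substitute words for letters in an element of the free group, the first letter acting first. -/
def wsubst (wa : α → List ℕ) (inv : ℕ → ℕ) (r : FreeGroup α) : List ℕ :=
  (r.toWord.reverse).flatMap (fun p => bif p.2 then wa p.1 else invW inv (wa p.1))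

theorem lift_eq_wsubst (gen : ℕ → Φ) (inv : ℕ → ℕ) (hinv : ∀ y, gen (inv y) = (gen y)⁻¹)
    (wa : α → List ℕ) (r : FreeGroup α) :
    FreeGroup.lift (fun a => wordVal gen (wa a)) r = wordVal gen (wsubst wa inv r) := by
  have key : ∀ L : List (α × Bool),
      (L.map (fun x => cond x.2 (wordVal gen (wa x.1)) (wordVal gen (wa x.1))⁻¹)).prod =
        wordVal gen (L.reverse.flatMap (fun p => bif p.2 then wa p.1 else invW inv (wa p.1))) := by
    intro L
    induction L with
    | nil => simp [wordVal]
    | cons p L ih =>
      rw [List.map_cons, List.prod_cons, ih, List.reverse_cons, List.flatMap_append, wordVal_append]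
      congr 1
      simp only [List.flatMap_cons, List.flatMap_nil, List.append_nil]
      cases p.2 with
      | true => rfl
      | false =>
        exact (wordVal_invW gen inv _ (fun y _ => hinv y)).symm
  conv_lhs => rw [← FreeGroup.mk_toWord (x := r)]
  rw [FreeGroup.lift_mk]
  exact key _

theorem prod_map_wordVal (gen : ℕ → Φ) (wa : α → List ℕ) (L : List α) :
    (L.map (fun a => wordVal gen (wa a))).prod = wordVal gen (L.reverse.flatMap wa) := by
  induction L with
  | nil => simp [wordVal]
  | cons a L ih =>
    rw [List.map_cons, List.prod_cons, ih, List.reverse_cons, List.flatMap_append, wordVal_append]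
    simp

theorem wordVal_mem (gen : ℕ → Φ) (K : Subgroup Φ) {w : List ℕ} (h : ∀ y ∈ w, gen y ∈ K) : wordVal gen w ∈ K := by
  apply Subgroup.list_prod_mem
  intro g hg
  obtain ⟨y, hy, rfl⟩ := List.mem_map.mp hg
  exact h y (List.mem_reverse.mp hy)

theorem wordVal_flatMap_mem (gen : ℕ → Φ) (K : Subgroup Φ) {L : List ℕ} {S : ℕ → List ℕ}
    (h : ∀ i ∈ L, wordVal gen (S i) ∈ K) : wordVal gen (L.flatMap S) ∈ K := by
  induction L with
  | nil => simpa [wordVal] using K.one_mem
  | cons a L ih =>
    rw [List.flatMap_cons, wordVal_append]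
    exact K.mul_mem (ih (fun i hi => h i (List.mem_cons_of_mem a hi))) (h a List.mem_cons_self)

end

/-- A simple group embedded with index two, and isomorphic to another group of the same order. -/
theorem index_two_of_embed {Q H P : Type*} [Group Q] [Group H] [Group P] (ψ : Q →* H) (hψ : Function.Injective ψ)
    (φ : Q →* P) (hφ : Function.Injective φ) (hP : Nat.card P = Nat.card Q) (hQ : Nat.card Q ≠ 0)
    (hH : Nat.card H = 2 * Nat.card Q) :
    ∃ N : Subgroup H, N.Normal ∧ N.index = 2 ∧ Nonempty (N ≃* P) := by
  have e1 : Q ≃* ψ.range := MonoidHom.ofInjective hψ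
  have : Finite P := Nat.finite_of_card_ne_zero (by rw [hP]; exact hQ)
  have hb : Function.Bijective φ := by
    have : Finite Q := Nat.finite_of_card_ne_zero hQ
    exact (Nat.bijective_iff_injective_and_card φ).mpr ⟨hφ, hP.symm⟩
  have hi : ψ.range.index = 2 := by
    have h1 := Subgroup.card_mul_index ψ.range
    rw [show Nat.card ψ.range = Nat.card Q from (Nat.card_congr e1.toEquiv).symm, hH] at h1
    have h2 : Nat.card Q * ψ.range.index = Nat.card Q * 2 := by rw [h1, mul_comm]
    exact Nat.eq_of_mul_eq_mul_left (Nat.pos_of_ne_zero hQ) h2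
  refine ⟨ψ.range, Subgroup.normal_of_index_eq_two hi, hi, ⟨e1.symm.trans (MulEquiv.ofBijective φ hb)⟩⟩

/-- A simple group embedded with full order, and isomorphic to another group of the same order. -/
theorem equiv_of_embed {Q H P : Type*} [Group Q] [Group H] [Group P] (ψ : Q →* H) (hψ : Function.Injective ψ)
    (φ : Q →* P) (hφ : Function.Injective φ) (hP : Nat.card P = Nat.card Q) (hQ : Nat.card Q ≠ 0)
    (hH : Nat.card H = Nat.card Q) : Nonempty (H ≃* P) := by
  have : Finite P := Nat.finite_of_card_ne_zero (by rw [hP]; exact hQ)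
  have : Finite H := Nat.finite_of_card_ne_zero (by rw [hH]; exact hQ)
  have : Finite Q := Nat.finite_of_card_ne_zero hQ
  have hb : Function.Bijective φ := (Nat.bijective_iff_injective_and_card φ).mpr ⟨hφ, hP.symm⟩
  have hb2 : Function.Bijective ψ := (Nat.bijective_iff_injective_and_card ψ).mpr ⟨hψ, hH.symm⟩
  exact ⟨(MulEquiv.ofBijective ψ hb2).symm.trans (MulEquiv.ofBijective φ hb)⟩

/-- A simple group which is not commutative is perfect. -/
theorem commutator_top_of_simple {Q : Type*} [Group Q] (hs : IsSimpleGroup Q) (hna : ∃ x y : Q, x * y ≠ y * x) :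
    commutator Q = ⊤ := by
  rcases hs.eq_bot_or_eq_top_of_normal (commutator Q) inferInstance with h | h
  · exfalso
    obtain ⟨x, y, hxy⟩ := hna
    apply hxy
    have h1 : ⁅x, y⁆ ∈ commutator Q := Subgroup.commutator_mem_commutator (Subgroup.mem_top x) (Subgroup.mem_top y)
    rw [h, Subgroup.mem_bot, commutatorElement_eq_one_iff_mul_comm] at h1
    exact h1
  · exact h

/-- The image of a perfect group lies in the commutator subgroup. -/
theorem mem_commutator_of_perfect {Q Γ : Type*} [Group Q] [Group Γ] (hp : commutator Q = ⊤) (φ : Q →* Γ) (q : Q) :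
    φ q ∈ commutator Γ := by
  have h1 : q ∈ commutator Q := by rw [hp]; trivial
  have h2 : φ q ∈ (commutator Q).map φ := ⟨q, h1, rfl⟩
  have h3 : (commutator Q).map φ ≤ commutator Γ := by
    unfold commutator
    rw [Subgroup.map_commutator]
    exact Subgroup.commutator_mono le_top le_top
  exact h3 h2

end Cfsg.Agent.Lib.ToddCox
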